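import Cfsg.Agent.Lib.Linear.SymplecticMax
import Mathlib.FieldTheory.Finite.Basic

/-!
# Centres of transvections and tori of hyperbolic pairs in symplectic spaces
-/

set_option autoImplicit false
set_option linter.style.haveILetI false
set_option linter.unusedSectionVars false
set_option linter.unusedSimpArgs false

namespace Cfsg.Lib.Linear.SpFour

open Module Cfsg.Lib.Linear.Symp

variable {F V : Type*} [Field F] [AddCommGroup V] [Module F V] [FiniteDimensional F V]
  {B : LinearMap.BilinForm F V}

/-- A field element which is neither `0` nor `±1`. -/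
theorem exists_mu [Fintype F] (h5 : 5 ≤ Fintype.card F) : ∃ μ : F, μ ≠ 0 ∧ μ ^ 2 ≠ 1 := by
  classical
  obtain ⟨μ, -, hμ⟩ := Finset.exists_mem_notMem_of_card_lt_card
    (s := ({0, 1, -1} : Finset F)) (t := Finset.univ) (by
      have := Finset.card_le_three (a := (0 : F)) (b := 1) (c := -1)
      rw [Finset.card_univ]; omega)
  simp only [Finset.mem_insert, Finset.mem_singleton, not_or] at hμ
  refine ⟨μ, hμ.1, fun h => ?_⟩
  rcases sq_eq_one_iff.mp h with e | e
  · exact hμ.2.1 e
  · exact hμ.2.2 e

theorem two_ne [Fintype F] (hodd : Odd (Fintype.card F)) : (2 : F) ≠ 0 := by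
  intro h
  haveI : CharP F 2 := CharTwo.of_one_ne_zero_of_two_eq_zero one_ne_zero h
  have := FiniteField.even_card_of_char_two (F := F) (ringChar.eq F 2)
  rw [Nat.odd_iff] at hodd
  omega

variable (hA : B.IsAlt)
include hA

theorem swapB (u v : V) : B v u = -B u v := (LinearMap.IsAlt.neg hA u v).symm

variable {L : Subgroup (V ≃ₗ[F] V)} (hL : L ≤ iso B)
include hL

omit hL in
theorem centre_smul {v : V} (h : v ∈ centres hA L) (k : F) : k • v ∈ centres hA L :=
  fun c => by rw [tv_smul]; exact h _

omit hL in
theorem centre_zero : (0 : V) ∈ centres hA L := fun c => by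
  rw [show tv hA (0 : V) c = 1 from LinearEquiv.ext fun z => by simp]
  exact one_mem L

omit hL in
/-- A transvection of every multiplier. -/
theorem centre_of_scaled {v : V} {k : F} (hk : k ≠ 0) (h : ∀ c, tv hA v (c * k) ∈ L) :
    v ∈ centres hA L := fun c => by
  simpa [hk] using h (c / k)

/-- Two non-orthogonal centres span a plane of centres. -/
theorem centres_join {v w : V} (hv : v ∈ centres hA L) (hw : w ∈ centres hA L) (h : B v w ≠ 0)
    (s t : F) : s • v + t • w ∈ centres hA L := by
  by_cases ht : t = 0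
  · rw [ht, zero_smul, add_zero]; exact centre_smul hA hv s
  have h1 := centres_invariant hA hL (hv (s / t / B w v)) hw
  have hne : B w v ≠ 0 := by rw [swapB hA]; exact neg_ne_zero.mpr h
  rw [tv_apply, div_mul_cancel₀ _ hne] at h1
  have h2 := centre_smul hA h1 t
  rwa [smul_add, smul_smul, mul_div_cancel₀ _ ht, add_comm] at h2

omit hL

/-- The map scaling a hyperbolic pair and fixing its perpendicular. -/
def dilMap (e f : V) (k : F) : V →ₗ[F] V :=
  LinearMap.id + ((k - 1) • B.flip f).smulRight e - ((k⁻¹ - 1) • B.flip e).smulRight f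

omit [FiniteDimensional F V] hA in
theorem dilMap_apply (e f : V) (k : F) (x : V) :
    dilMap (B := B) e f k x = x + ((k - 1) * B x f) • e - ((k⁻¹ - 1) * B x e) • f := rfl

theorem dil_cancel {e f : V} (hef : B e f = 1) {k : F} (hk : k ≠ 0) (x : V) :
    dilMap (B := B) e f k (dilMap (B := B) e f k⁻¹ x) = x := by
  have hfe : B f e = -1 := by rw [swapB hA, hef]
  simp only [dilMap_apply, map_add, map_sub, map_smul, LinearMap.add_apply, LinearMap.sub_apply,
    LinearMap.smul_apply, hA.self_eq_zero, hef, hfe, smul_eq_mul, inv_inv]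
  match_scalars <;> field_simp <;> ring

/-- The torus of a hyperbolic pair. -/
noncomputable def dil {e f : V} (hef : B e f = 1) {k : F} (hk : k ≠ 0) : V ≃ₗ[F] V :=
  LinearEquiv.ofLinear (dilMap (B := B) e f k) (dilMap (B := B) e f k⁻¹)
    (LinearMap.ext fun x => dil_cancel hA hef hk x)
    (LinearMap.ext fun x => by
      have := dil_cancel hA hef (inv_ne_zero hk) x
      rwa [inv_inv] at this)

theorem dil_apply {e f : V} (hef : B e f = 1) {k : F} (hk : k ≠ 0) (x : V) :
    dil hA hef hk x = x + ((k - 1) * B x f) • e - ((k⁻¹ - 1) * B x e) • f := rfl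

theorem dil_mem_iso {e f : V} (hef : B e f = 1) {k : F} (hk : k ≠ 0) :
    dil hA hef hk ∈ iso B := by
  intro x y
  have hfe : B f e = -1 := by rw [swapB hA, hef]
  have hef' : ∀ z, B e z = -B z e := fun z => swapB hA z e
  have hff' : ∀ z, B f z = -B z f := fun z => swapB hA z f
  simp only [dil_apply, map_add, map_sub, map_smul, LinearMap.add_apply, LinearMap.sub_apply,
    LinearMap.smul_apply, hA.self_eq_zero, hef, hfe, smul_eq_mul]
  rw [hef' y, hff' y]
  field_simp
  ring

theorem dil_swap {e f : V} (hef : B e f = 1) (hfe : B f (-e) = 1) {k : F} (hk : k ≠ 0) :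
    dil hA hfe hk = dil hA hef (inv_ne_zero hk) := by
  refine LinearEquiv.ext fun x => ?_
  rw [dil_apply, dil_apply]
  simp only [map_neg, mul_neg, inv_inv, smul_neg, neg_smul]
  abel

end Cfsg.Lib.Linear.SpFour
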