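import Cfsg.Agent.Lib.Linear.SympExtMax

/-!
# Transvections above `Sp₂(q²)` in `Sp₄(q)`, `q` odd
-/

set_option autoImplicit false
set_option linter.unusedSectionVars false
set_option linter.unusedSimpArgs false

namespace Cfsg.Lib.Linear.SympExt

open Module Cfsg.Lib.Linear.ExtField

variable {F K V : Type*} [Field F] [Field K] [Algebra F K] [AddCommGroup V] [Module F V]
  [Module K V] [IsScalarTower F K V]
  {B : LinearMap.BilinForm F V} {h : LinearMap.BilinForm K V} {G : Subgroup (V ≃ₗ[F] V)}
  [Finite K] [FiniteDimensional F K] [FiniteDimensional K V]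

/-- A pairing over a quadratic extension in dimension two yields a transvection. -/
theorem exists_tv_two (D : Data B h) (hG : Over B h G) (h2 : (2 : F) ≠ 0)
    (hK : finrank F K = 2) (hV : finrank K V = 2) :
    ∃ e : V, e ≠ 0 ∧ ∀ c, InG G (qMap B c e) := by
  obtain ⟨g, hg, v, k, hk⟩ := hG.moved
  set θ : K := k - algebraMap F K (Algebra.trace F K k / 2) with hθ
  have htr : Algebra.trace F K θ = 0 := by
    rw [hθ, map_sub, Algebra.trace_algebraMap, hK, nsmul_eq_mul]
    field_simp
    ring
  have hθF : ∀ c : F, θ ≠ algebraMap F K c := fun c e => hk (by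
    have e2 : k = algebraMap F K (c + Algebra.trace F K k / 2) := by
      rw [map_add, ← e, hθ, sub_add_cancel]
    rw [e2, algebraMap_smul, map_smul, ← algebraMap_smul K (c + Algebra.trace F K k / 2) (g v)]
    exact Submodule.smul_mem _ _ (Submodule.mem_span_singleton_self _))
  have hli : LinearIndependent F ![(1 : K), θ] :=
    (LinearIndependent.pair_iff' one_ne_zero).mpr fun c e => hθF c (by
      rw [← e, Algebra.smul_def, mul_one])
  have hbasis : ∀ t : K, ∃ α β : F, t = algebraMap F K α + β • θ := fun t => by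
    have hspan : Submodule.span F (Set.range ![(1 : K), θ]) = ⊤ :=
      Submodule.eq_top_of_finrank_eq (by rw [finrank_span_eq_card hli, hK, Fintype.card_fin])
    have ht : t ∈ Submodule.span F (Set.range ![(1 : K), θ]) := hspan ▸ Submodule.mem_top
    rw [Matrix.range_cons, Matrix.range_cons, Matrix.range_empty, Set.union_empty,
      ← Set.insert_eq, Submodule.mem_span_pair] at ht
    obtain ⟨α, β, hαβ⟩ := ht
    exact ⟨α, β, by rw [← hαβ, Algebra.algebraMap_eq_smul_one]⟩
  obtain ⟨a, b, hsq⟩ := hbasis (θ * θ)
  have ha : a ≠ 0 := fun e => by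
    rw [e, map_zero, zero_add, Algebra.smul_def] at hsq
    have hθ0 : θ ≠ 0 := fun e0 => hθF 0 (by rw [e0, map_zero])
    exact hθF b (mul_right_cancel₀ hθ0 hsq)
  have htsq : Algebra.trace F K (θ * θ) = 2 * a := by
    rw [hsq, map_add, map_smul, htr, smul_zero, add_zero, Algebra.trace_algebraMap, hK,
      nsmul_eq_mul]
    norm_num
  set x := g v with hx
  set y := g (θ • v) with hy
  have hyx : y ∉ K ∙ x := fun hm => hk (by
    have e : g (k • v) = y + (Algebra.trace F K k / 2) • x := by
      rw [hy, hx, ← map_smul, ← map_add, ← algebraMap_smul K (Algebra.trace F K k / 2) v,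
        ← add_smul, hθ, sub_add_cancel]
    rw [e, ← algebraMap_smul K (Algebra.trace F K k / 2) x]
    exact add_mem hm (Submodule.smul_mem _ _ (Submodule.mem_span_singleton_self _)))
  have hx0 : x ≠ 0 := fun e => hyx (by
    rw [hy, g.map_eq_zero_iff.mp e, smul_zero, map_zero]; exact zero_mem _)
  have hη : h x y ≠ 0 := fun e => hx0 (D.sep x fun z => by
    have hli2 : LinearIndependent K ![x, y] :=
      (LinearIndependent.pair_iff' hx0).mpr fun c ec => hyx (Submodule.mem_span_singleton.mpr ⟨c, ec⟩)
    have hspan : Submodule.span K (Set.range ![x, y]) = ⊤ :=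
      Submodule.eq_top_of_finrank_eq (by rw [finrank_span_eq_card hli2, hV, Fintype.card_fin])
    have hz : z ∈ Submodule.span K (Set.range ![x, y]) := hspan ▸ Submodule.mem_top
    rw [Matrix.range_cons, Matrix.range_cons, Matrix.range_empty, Set.union_empty,
      ← Set.insert_eq, Submodule.mem_span_pair] at hz
    obtain ⟨s, t, rfl⟩ := hz
    simp [D.alt, e])
  have hxx : B x x = 0 := D.alt' x
  have hyy : B y y = 0 := D.alt' y
  have hxy : B x y = 0 := by
    rw [hx, hy, hG.isom g hg, D.smul_right, D.alt, mul_zero, map_zero]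
  have hyx' : B y x = 0 := by
    rw [hx, hy, hG.isom g hg, D.smul_left, D.alt, mul_zero, map_zero]
  -- the conjugate root element
  have hE : ∀ c : F, InG G (qMap B c x + qMap B (c / a) y) := fun c => by
    refine InG.conj (hG.roots v (algebraMap F K (2 * c))) hg fun z => ?_
    simp only [LinearMap.add_apply, qMap_apply, root_apply, hx, hy, hG.isom g hg]
    obtain ⟨α, β, hαβ⟩ := hbasis (h v z)
    have e1 : B v z = 2 * α := by
      rw [D.tr, hαβ, map_add, map_smul, htr, smul_zero, add_zero, Algebra.trace_algebraMap, hK,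
        nsmul_eq_mul]
      norm_num
    have e2 : B (θ • v) z = 2 * a * β := by
      rw [D.smul_left, hαβ, mul_add, ← Algebra.commutes α θ, map_add, trace_algebraMap_mul, htr,
        mul_smul_comm, map_smul, htsq, smul_eq_mul]
      ring
    rw [e1, e2, hαβ, ← map_smul g, ← map_smul g, ← map_add]
    congr 1
    rw [mul_add, ← map_mul, mul_smul_comm, add_smul, algebraMap_smul, smul_assoc,
      mul_smul (algebraMap F K (2 * c)) θ v, algebraMap_smul, smul_smul]
    congr 1
    · congr 1; ring
    · congr 1; field_simp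
  -- moved by a root element at the first vector
  have hEn : ∀ n c : F, InG G (qMap B c x + qMap B (c / a) (y + n • x)) := fun n c => by
    obtain ⟨M, hM, hMa⟩ := hG.roots x (algebraMap F K n / h x y)
    have hMx : M x = x := by simp [hMa, D.alt]
    have hMy : M y = y + n • x := by
      rw [hMa, root_apply, div_mul_cancel₀ _ hη, algebraMap_smul]
    refine InG.conj (hE c) hM fun z => ?_
    simp only [LinearMap.add_apply, qMap_apply, map_add M, map_smul M, hMx, hMy]
    rw [show B x (M z) = B x z by nth_rw 1 [← hMx]; exact hG.isom M hM x z,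
      show B (y + n • x) (M z) = B y z by rw [← hMy]; exact hG.isom M hM y z]
  refine ⟨x, hx0, fun c => ?_⟩
  have hc : a * c / 2 * 2 / a = c := by field_simp
  refine (((hEn 2 (a * c / 2)).add (hEn 1 (-2 * (a * c / 2))) fun z => ?_).add
    (hEn 0 (a * c / 2)) fun z => ?_).congr fun z => ?_
  · simp [hxx, hyy, hxy, hyx']
  · simp [hxx, hyy, hxy, hyx']
  · simp only [LinearMap.add_apply, qMap_apply, map_add, map_smul, LinearMap.smul_apply,
      smul_eq_mul, zero_smul, add_zero]
    match_scalars <;> field_simp <;> ring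

/-- Every transvection lies in the group. -/
theorem tv_mem_two (D : Data B h) (hG : Over B h G) (h2 : (2 : F) ≠ 0)
    (hK : finrank F K = 2) (hV : finrank K V = 2) (v : V) (a : F) : InG G (qMap B a v) := by
  obtain ⟨e, he, htv⟩ := exists_tv_two D hG h2 hK hV
  rcases eq_or_ne v 0 with rfl | hv
  · exact InG.zero.congr fun x => by simp
  obtain ⟨M, hM, hMe⟩ := exists_move D hG he hv
  refine InG.conj (htv a) hM fun x => ?_
  rw [← hMe]
  simp [hG.isom M hM]

end Cfsg.Lib.Linear.SympExt
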