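import Cfsg.Agent.Lib.Linear.SymplecticMax
import Cfsg.Agent.Lib.Linear.ExtraTwo.Frame
import Cfsg.Agent.Lib.Linear.OrthTrans
import Cfsg.Agent.Lib.Linear.OrthOdd
import Cfsg.Agent.Lib.Linear.FrameSmall.Five

/-!
# The normaliser of an extraspecial group of minus type is maximal in `Sp₄(p)`

Five anticommuting involutions of the group span the space of self-adjoint matrices of trace zero.
Conjugation on this space maps `Sp₄` onto `Ω₅` and the normaliser onto the stabiliser of a frame.
-/

set_option autoImplicit false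
set_option linter.unusedSectionVars false
set_option linter.unusedSimpArgs false

namespace Cfsg.Lib.Linear.SpFour.Klein

open scoped Matrix
open Module Cfsg.Lib.Linear

variable {F : Type*} [Field F]

local notation "I4" => (Fin 2 ⊕ Fin 2)
local notation "M4" => Matrix (Fin 2 ⊕ Fin 2) (Fin 2 ⊕ Fin 2) F
local notation "V5" => (Fin 5 → F)

/-- Self-adjoint of trace zero. -/
def SA (M : M4) : Prop :=
  (∀ u v : I4 → F, Cfsg.sympForm 2 F (M *ᵥ u) v = Cfsg.sympForm 2 F u (M *ᵥ v)) ∧ M.trace = 0

/-- Five coordinates which determine a self-adjoint matrix of trace zero. -/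
def c5 : M4 →ₗ[F] V5 where
  toFun M := ![M (Sum.inl 0) (Sum.inl 0), M (Sum.inl 0) (Sum.inl 1), M (Sum.inl 1) (Sum.inl 0),
    M (Sum.inl 0) (Sum.inr 1), M (Sum.inr 0) (Sum.inl 1)]
  map_add' M M' := by funext k; fin_cases k <;> rfl
  map_smul' c M := by funext k; fin_cases k <;> rfl

theorem eq_zero_of_c5 (h2 : (2 : F) ≠ 0) {M : M4} (hM : SA M) (h : c5 M = 0) : M = 0 := by
  obtain ⟨hs, ht⟩ := hM
  have key : ∀ a b : I4, Cfsg.sympForm 2 F (M *ᵥ Pi.single a 1) (Pi.single b 1) =
      Cfsg.sympForm 2 F (Pi.single a 1) (M *ᵥ Pi.single b 1) := fun a b => hs _ _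
  have A0 : M (Sum.inl 0) (Sum.inl 0) = 0 := congrFun h 0
  have A1 : M (Sum.inl 0) (Sum.inl 1) = 0 := congrFun h 1
  have A2 : M (Sum.inl 1) (Sum.inl 0) = 0 := congrFun h 2
  have B1 : M (Sum.inl 0) (Sum.inr 1) = 0 := congrFun h 3
  have C1 : M (Sum.inr 0) (Sum.inl 1) = 0 := congrFun h 4
  have two : ∀ i : Fin 2, i = 0 ∨ i = 1 := by decide
  have hLR : ∀ i j, M (Sum.inl j) (Sum.inl i) = M (Sum.inr i) (Sum.inr j) := fun i j => by
    have := key (Sum.inl i) (Sum.inr j)
    rcases two i with rfl | rfl <;>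
      simpa [Cfsg.sympForm, Matrix.J, Matrix.mulVec, dotProduct, Pi.single_apply,
        Fintype.sum_sum_type, Matrix.one_apply] using this
  have hLL : ∀ i j, M (Sum.inr j) (Sum.inl i) + M (Sum.inr i) (Sum.inl j) = 0 := fun i j => by
    have := key (Sum.inl i) (Sum.inl j)
    rcases two i with rfl | rfl <;>
      simp [Cfsg.sympForm, Matrix.J, Matrix.mulVec, dotProduct, Pi.single_apply,
        Fintype.sum_sum_type, Matrix.one_apply] at this <;>
      linear_combination this
  have hRR : ∀ i j, M (Sum.inl j) (Sum.inr i) + M (Sum.inl i) (Sum.inr j) = 0 := fun i j => by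
    have := key (Sum.inr i) (Sum.inr j)
    rcases two i with rfl | rfl <;>
      simp [Cfsg.sympForm, Matrix.J, Matrix.mulVec, dotProduct, Pi.single_apply,
        Fintype.sum_sum_type, Matrix.one_apply] at this <;>
      linear_combination -this
  have half : ∀ x : F, x + x = 0 → x = 0 := fun x hx =>
    (mul_eq_zero.mp (show 2 * x = 0 by linear_combination hx)).resolve_left h2
  have C2 : M (Sum.inr 1) (Sum.inl 0) = 0 := by linear_combination hLL 0 1 - C1
  have B2 : M (Sum.inl 1) (Sum.inr 0) = 0 := by linear_combination hRR 0 1 - B1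
  have A3 : M (Sum.inl 1) (Sum.inl 1) = 0 := by
    simp only [Matrix.trace, Matrix.diag_apply, Fintype.sum_sum_type, Fin.sum_univ_two,
      ← hLR, A0] at ht
    exact half _ (by linear_combination ht)
  ext a b
  rcases a with i | i <;> rcases b with j | j <;> fin_cases i <;> fin_cases j <;>
    simp only [Matrix.zero_apply, Fin.zero_eta, Fin.mk_one, Fin.isValue] <;>
    first
      | assumption
      | exact half _ (hLL _ _)
      | exact half _ (hRR _ _)
      | (rw [← hLR]; assumption)

/-- The data: a frame inside the symplectic group. -/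
structure Data (R : Subgroup (GL I4 F)) (e : Fin 5 → GL I4 F) : Prop where
  ctx : ExtraTwo.Ctx R
  frame : ExtraTwo.Frame R e
  le : R ≤ Cfsg.spGL 2 F

variable {R : Subgroup (GL I4 F)} {e : Fin 5 → GL I4 F}

/-- The matrix with given coordinates in the frame. -/
def emb (e : Fin 5 → GL I4 F) : V5 →ₗ[F] M4 where
  toFun x := ∑ k, x k • (e k : M4)
  map_add' x y := by simp only [Pi.add_apply, add_smul, Finset.sum_add_distrib]
  map_smul' c x := by simp only [Pi.smul_apply, smul_eq_mul, mul_smul, Finset.smul_sum,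
    RingHom.id_apply]

/-- The coordinates in the frame. -/
noncomputable def co (e : Fin 5 → GL I4 F) : M4 →ₗ[F] V5 where
  toFun M := fun k => (4 : F)⁻¹ * (M * (e k : M4)).trace
  map_add' M M' := by funext k; simp only [add_mul, Matrix.trace_add, mul_add, Pi.add_apply]
  map_smul' c M := by
    funext k
    simp only [smul_mul_assoc, Matrix.trace_smul, smul_eq_mul, Pi.smul_apply, RingHom.id_apply]
    ring

theorem emb_apply (x : V5) : emb e x = ∑ k, x k • (e k : M4) := rfl

theorem co_apply (M : M4) (k : Fin 5) : co e M k = (4 : F)⁻¹ * (M * (e k : M4)).trace := rfl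

/-- The quadratic form. -/
def qf (x : V5) : F := ∑ k, x k * x k

/-- Its polar form. -/
def bf : LinearMap.BilinForm F V5 := LinearMap.mk₂ F (fun x y => 2 * ∑ k, x k * y k)
  (fun x x' y => by simp only [Pi.add_apply, add_mul, Finset.sum_add_distrib, mul_add])
  (fun c x y => by
    simp only [Pi.smul_apply, smul_eq_mul, Finset.mul_sum]
    exact Finset.sum_congr rfl fun k _ => by ring)
  (fun x y y' => by simp only [Pi.add_apply, mul_add, Finset.sum_add_distrib])
  (fun c x y => by
    simp only [Pi.smul_apply, smul_eq_mul, Finset.mul_sum]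
    exact Finset.sum_congr rfl fun k _ => by ring)

theorem bf_apply (x y : V5) : bf x y = 2 * ∑ k, x k * y k := rfl

theorem space (h2 : (2 : F) ≠ 0) : Orth.Space (qf (F := F)) bf where
  smul c v := by
    simp only [qf, Pi.smul_apply, smul_eq_mul, Finset.mul_sum]
    exact Finset.sum_congr rfl fun k _ => by ring
  polar u v := by
    simp only [QuadraticMap.polar, qf, bf_apply, Pi.add_apply, Fin.sum_univ_five]
    ring
  nondeg v h := funext fun k => by
    have := h (Pi.single k 1)
    simp only [bf_apply, Pi.single_apply, ite_mul, one_mul, zero_mul, Finset.sum_ite_eq',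
      Finset.mem_univ, if_true] at this
    exact (mul_eq_zero.mp this).resolve_left h2

variable (D : Data R e)

include D

theorem Data.two : (2 : F) ≠ 0 := D.ctx.two

theorem Data.four : (4 : F) ≠ 0 := by
  rw [show (4 : F) = 2 * 2 by norm_num]; exact mul_ne_zero D.two D.two

theorem Data.sq (k : Fin 5) : (e k : M4) * (e k : M4) = 1 := by
  rw [← Units.val_mul, D.frame.sq, Units.val_one]

theorem Data.anti {k l : Fin 5} (h : k ≠ l) : (e k : M4) * e l = -((e l : M4) * e k) := by
  rw [← Units.val_mul, D.frame.anti k l h, Units.val_neg, Units.val_mul]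

theorem Data.trace_pair {k l : Fin 5} (h : k ≠ l) : ((e k : M4) * e l).trace = 0 := by
  have h1 : ((e k : M4) * e l).trace = -((e k : M4) * e l).trace := by
    conv_lhs => rw [D.anti h, Matrix.trace_neg, Matrix.trace_mul_comm]
  exact (mul_eq_zero.mp (show (2 : F) * _ = 0 by linear_combination h1)).resolve_left D.two

theorem Data.co_emb (x : V5) : co e (emb e x) = x := by
  funext k
  rw [co_apply, emb_apply, Finset.sum_mul, Matrix.trace_sum, Finset.sum_eq_single k
    (fun l _ hl => by rw [smul_mul_assoc, Matrix.trace_smul, D.trace_pair hl, smul_zero])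
    (fun h => absurd (Finset.mem_univ k) h), smul_mul_assoc, D.sq, Matrix.trace_smul,
    Matrix.trace_one, Fintype.card_sum, Fintype.card_fin, smul_eq_mul]
  have := D.four
  push_cast
  field_simp

theorem Data.emb_inj : Function.Injective (emb e) := fun x y h => by
  rw [← D.co_emb x, h, D.co_emb]

theorem Data.sa_frame (k : Fin 5) : SA (e k : M4) := by
  refine ⟨fun u v => ?_, D.ctx.trace_noncentral (D.frame.mem k)
    (ExtraTwo.Frame.noncentral D.ctx D.frame k)⟩
  have h : Cfsg.sympForm 2 F ((e k : M4) *ᵥ u) ((e k : M4) *ᵥ ((e k : M4) *ᵥ v)) =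
      Cfsg.sympForm 2 F u ((e k : M4) *ᵥ v) := D.le (D.frame.mem k) u _
  rwa [Matrix.mulVec_mulVec, D.sq, Matrix.one_mulVec] at h

theorem Data.sa_emb (x : V5) : SA (emb e x) := by
  refine ⟨fun u v => ?_, ?_⟩
  · simp only [emb_apply, Matrix.sum_mulVec, Matrix.smul_mulVec, ← Symp.spB_apply, map_sum,
      map_smul, LinearMap.sum_apply, LinearMap.smul_apply]
    refine Finset.sum_congr rfl fun k _ => ?_
    rw [Symp.spB_apply, Symp.spB_apply, (D.sa_frame k).1]
  · simp only [emb_apply, Matrix.trace_sum, Matrix.trace_smul, (D.sa_frame _).2, smul_zero,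
      Finset.sum_const_zero]

theorem Data.emb_co {M : M4} (hM : SA M) : emb e (co e M) = M := by
  have hinj : Function.Injective (c5.comp (emb e)) := by
    rw [← LinearMap.ker_eq_bot, Submodule.eq_bot_iff]
    intro x hx
    exact D.emb_inj ((eq_zero_of_c5 D.two (D.sa_emb x) hx).trans (map_zero _).symm)
  obtain ⟨x, hx⟩ := LinearMap.injective_iff_surjective.mp hinj (c5 M)
  have hd : SA (M - emb e x) := by
    refine ⟨fun u v => ?_, by rw [Matrix.trace_sub, hM.2, (D.sa_emb x).2, sub_zero]⟩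
    rw [Matrix.sub_mulVec, Matrix.sub_mulVec, ← Symp.spB_apply, ← Symp.spB_apply, map_sub,
      map_sub, LinearMap.sub_apply, Symp.spB_apply, Symp.spB_apply, Symp.spB_apply,
      Symp.spB_apply, hM.1, (D.sa_emb x).1]
  have h0 := eq_zero_of_c5 D.two hd (by
    rw [map_sub]; exact sub_eq_zero.mpr hx.symm)
  rw [sub_eq_zero.mp h0, D.co_emb]

theorem Data.anticomm (x y : V5) :
    emb e x * emb e y + emb e y * emb e x = bf x y • (1 : M4) := by
  have h1 : ∀ k l, (e k : M4) * e l + (e l : M4) * e k = (if k = l then (2 : F) else 0) • 1 := by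
    intro k l
    split_ifs with h
    · rw [h, D.sq, two_smul]
    · rw [D.anti h, neg_add_cancel, zero_smul]
  simp only [emb_apply, Finset.sum_mul, Finset.mul_sum, smul_mul_assoc, mul_smul_comm, Finset.smul_sum, smul_smul]
  conv_lhs => arg 2; rw [Finset.sum_comm]
  rw [← Finset.sum_add_distrib, bf_apply, Finset.mul_sum, Finset.sum_smul]
  refine Finset.sum_congr rfl fun k _ => ?_
  rw [← Finset.sum_add_distrib, Finset.sum_eq_single k (fun l _ hl => ?_)
    (fun h => absurd (Finset.mem_univ k) h)]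
  · rw [D.sq, ← add_smul]
    congr 1
    ring
  · rw [mul_comm (y _), ← smul_add, h1, if_neg (by first | exact hl | exact hl.symm), zero_smul,
      smul_zero]

theorem Data.emb_sq (x : V5) : emb e x * emb e x = qf x • (1 : M4) := by
  have h := D.anticomm x x
  rw [← two_smul F, bf_apply, mul_smul] at h
  exact smul_right_injective M4 D.two h

/-- The action on self-adjoint matrices. -/
theorem Data.sa_conj {g : GL I4 F} (hg : g ∈ Cfsg.spGL 2 F) (x : V5) :
    SA ((g : M4) * emb e x * ((g⁻¹ : GL I4 F) : M4)) := by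
  refine ⟨fun u v => ?_, by rw [Matrix.trace_units_conj, (D.sa_emb x).2]⟩
  have hgi : ∀ w, (g : M4) *ᵥ (((g⁻¹ : GL I4 F) : M4) *ᵥ w) = w := fun w => by
    rw [Matrix.mulVec_mulVec, Units.mul_inv, Matrix.one_mulVec]
  simp only [← Matrix.mulVec_mulVec]
  have hg' : ∀ a b : I4 → F,
      Cfsg.sympForm 2 F ((g : M4) *ᵥ a) ((g : M4) *ᵥ b) = Cfsg.sympForm 2 F a b := fun a b => hg a b
  conv_lhs => rw [← hgi v, hg', (D.sa_emb x).1]
  conv_rhs => rw [← hgi u, hg']

/-- The representation. -/
noncomputable def Data.rep (_D : Data R e) (g : Cfsg.spGL 2 F) : Matrix (Fin 5) (Fin 5) F :=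
  LinearMap.toMatrix' ((co e).comp ((LinearMap.mulRight F (((g : GL I4 F)⁻¹ : GL I4 F) : M4)).comp
    ((LinearMap.mulLeft F ((g : GL I4 F) : M4)).comp (emb e))))

theorem Data.rep_mulVec (g : Cfsg.spGL 2 F) (x : V5) : D.rep g *ᵥ x =
    co e (((g : GL I4 F) : M4) * emb e x * (((g : GL I4 F)⁻¹ : GL I4 F) : M4)) := by
  rw [Data.rep, ← Matrix.toLin'_apply, Matrix.toLin'_toMatrix']
  rfl

theorem Data.emb_rep (g : Cfsg.spGL 2 F) (x : V5) : emb e (D.rep g *ᵥ x) =
    ((g : GL I4 F) : M4) * emb e x * (((g : GL I4 F)⁻¹ : GL I4 F) : M4) := by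
  rw [D.rep_mulVec, D.emb_co (D.sa_conj g.2 x)]

/-- The homomorphism to the matrices of degree five. -/
noncomputable def Data.phi : Cfsg.spGL 2 F →* GL (Fin 5) F :=
  MonoidHom.toHomUnits
    { toFun := D.rep
      map_one' := Orth.mat_ext fun x => D.emb_inj (by
        rw [D.emb_rep, Matrix.one_mulVec]; simp)
      map_mul' := fun g h => Orth.mat_ext fun x => D.emb_inj (by
        rw [D.emb_rep, ← Matrix.mulVec_mulVec, D.emb_rep, D.emb_rep, Subgroup.coe_mul,
          mul_inv_rev, Units.val_mul, Units.val_mul]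
        simp only [mul_assoc]) }

theorem Data.emb_phi (g : Cfsg.spGL 2 F) (x : V5) : emb e ((D.phi g).val *ᵥ x) =
    ((g : GL I4 F) : M4) * emb e x * (((g : GL I4 F)⁻¹ : GL I4 F) : M4) :=
  D.emb_rep g x

theorem Data.phi_mem_iso (g : Cfsg.spGL 2 F) : D.phi g ∈ Cfsg.isometryGroup F (qf (F := F)) := by
  refine Orth.mem_iso.mpr fun x => ?_
  have h := D.emb_sq ((D.phi g).val *ᵥ x)
  rw [D.emb_phi, show ∀ a b c : M4, a * b * c * (a * b * c) = a * (b * (c * a) * b) * c from
    fun a b c => by simp only [mul_assoc], Units.inv_mul, mul_one, D.emb_sq, mul_smul_comm,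
    mul_one, smul_mul_assoc, Units.mul_inv] at h
  have h' := congrArg (fun M : M4 => M (Sum.inl 0) (Sum.inl 0)) h
  simpa using h'.symm

theorem Data.reflect {a : V5} (ha : qf a ≠ 0) (x : V5) :
    emb e a * emb e x * emb e a = (-qf a) • emb e ((Orth.rGL qf a).val *ᵥ x) := by
  have h := D.anticomm a x
  rw [← eq_sub_iff_add_eq] at h
  rw [h, sub_mul, smul_mul_assoc, one_mul, mul_assoc, D.emb_sq, mul_smul_comm, mul_one,
    Orth.rGL_act (space D.two) ha, map_sub, map_smul, smul_sub, smul_smul]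
  match_scalars
  · field_simp
  · ring

/-- Products of two reflections of equal norm are images. -/
theorem Data.pair_mem {a b : V5} (ha : qf a ≠ 0) (hab : qf a = qf b) :
    Orth.rGL qf a * Orth.rGL qf b ∈ D.phi.range := by
  set c := qf a with hc
  have h1 : c⁻¹ • (emb e a * emb e b) * (c⁻¹ • (emb e b * emb e a)) = 1 := by
    rw [smul_mul_smul_comm, mul_assoc, ← mul_assoc (emb e b) (emb e b), D.emb_sq, ← hab,
      smul_mul_assoc, one_mul, mul_smul_comm, D.emb_sq, smul_smul, smul_smul, ← hc]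
    convert one_smul F (1 : M4) using 2
    field_simp
  have h2 : c⁻¹ • (emb e b * emb e a) * (c⁻¹ • (emb e a * emb e b)) = 1 := by
    rw [smul_mul_smul_comm, mul_assoc, ← mul_assoc (emb e a) (emb e a), D.emb_sq,
      smul_mul_assoc, one_mul, mul_smul_comm, D.emb_sq, ← hab, smul_smul, smul_smul, ← hc]
    convert one_smul F (1 : M4) using 2
    field_simp
  let g : GL I4 F := ⟨c⁻¹ • (emb e a * emb e b), c⁻¹ • (emb e b * emb e a), h1, h2⟩
  have hg : g ∈ Cfsg.spGL 2 F := by
    intro u v
    show Cfsg.sympForm 2 F ((c⁻¹ • (emb e a * emb e b)) *ᵥ u)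
      ((c⁻¹ • (emb e a * emb e b)) *ᵥ v) = _
    rw [Matrix.smul_mulVec, Matrix.smul_mulVec, ← Symp.spB_apply, map_smul, map_smul,
      LinearMap.smul_apply, Symp.spB_apply, ← Matrix.mulVec_mulVec, ← Matrix.mulVec_mulVec,
      (D.sa_emb a).1, Matrix.mulVec_mulVec _ (emb e a) (emb e a), D.emb_sq, Matrix.smul_mulVec,
      Matrix.one_mulVec, ← Symp.spB_apply, map_smul, Symp.spB_apply, (D.sa_emb b).1,
      Matrix.mulVec_mulVec, D.emb_sq, Matrix.smul_mulVec, Matrix.one_mulVec, ← Symp.spB_apply,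
      map_smul, Symp.spB_apply, ← hab, ← hc]
    simp only [smul_eq_mul]
    field_simp
  refine ⟨⟨g, hg⟩, Orth.gl_ext fun x => D.emb_inj ?_⟩
  have hb : qf b ≠ 0 := hab ▸ ha
  rw [D.emb_phi, Units.val_mul, ← Matrix.mulVec_mulVec]
  show c⁻¹ • (emb e a * emb e b) * emb e x * (c⁻¹ • (emb e b * emb e a)) = _
  rw [smul_mul_assoc, smul_mul_smul_comm,
    show emb e a * emb e b * emb e x * (emb e b * emb e a) =
      emb e a * (emb e b * emb e x * emb e b) * emb e a by simp only [mul_assoc],
    D.reflect hb, mul_smul_comm, smul_mul_assoc, D.reflect ha, smul_smul, smul_smul, ← hab, ← hc]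
  convert one_smul F (emb e _) using 2
  field_simp

theorem Data.root_le [Finite F] :
    Orth.Root (qf (F := F)) bf ⊤ ≤ D.phi.range := by
  have C := space (F := F) D.two
  refine (Subgroup.closure_le _).mpr ?_
  rintro _ ⟨u, a, -, -, hu, hua, rfl⟩
  have key : ∀ a, qf a ≠ 0 → bf u a = 0 → Orth.sGL qf bf u a ∈ D.phi.range := fun a ha hua => by
    obtain ⟨h1, h2⟩ := Orth.rGL_mul_rGL C ha hu hua
    rw [← h2]
    exact D.pair_mem ha h1.symm
  by_cases ha : qf a = 0
  · obtain ⟨z, hz, hQz⟩ : ∃ z ∈ Orth.perp2 bf ⊤ u a, qf z ≠ 0 := by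
      refine Orth.exists_nonsing_of_lt C ?_
      have h1 := LinearMap.finrank_range_add_finrank_ker ((bf u).prod (bf a))
      have h2 := Submodule.finrank_le (LinearMap.range ((bf u).prod (bf a)))
      have h3 : LinearMap.ker ((bf u).prod (bf a)) = Orth.perp2 bf ⊤ u a := by
        rw [LinearMap.ker_prod, Orth.perp2, top_inf_eq]
      rw [h3, finrank_fin_fun] at h1
      rw [Module.finrank_prod, Module.finrank_self] at h2
      simp only [finrank_fin_fun, Fintype.card_fin]
      omega
    obtain ⟨-, huz, haz⟩ := Orth.mem_perp2.mp hz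
    have h1 : qf (a + z) ≠ 0 := by rwa [C.add, ha, haz, zero_add, add_zero]
    have h2 : bf u (a + z) = 0 := by rw [map_add, hua, huz, add_zero]
    have h3 : bf u (-z) = 0 := by rw [map_neg, huz, neg_zero]
    rw [show a = (a + z) + -z by abel, ← Orth.sGL_mul C hu h2 h3]
    exact mul_mem (key _ h1 h2) (key _ (by rwa [C.neg]) h3)
  · exact key a ha hua

theorem Data.range_eq [Fintype F] : D.phi.range = Cfsg.Geo.omegaGL (qf (F := F)) := by
  have C := space (F := F) D.two
  have h5 : 5 ≤ Fintype.card (Fin 5) := by simp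
  refine le_antisymm ?_ ((Orth.omegaGL_eq C h5).trans_le D.root_le)
  have hB := Symp.spB_nondegenerate 2 F
  have hA := Symp.spB_isAlt 2 F
  have hperf : ⁅Cfsg.spGL 2 F, Cfsg.spGL 2 F⁆ = Cfsg.spGL 2 F := by
    set E := (Symp.glEquiv I4 F).toMonoidHom
    have hsur : Function.Surjective E := (Symp.glEquiv I4 F).surjective
    have hinj : Function.Injective E := (Symp.glEquiv I4 F).injective
    have h := Symp.commutator_eq_top hB hA
      (Or.inr (Or.inl ⟨by rw [Symp.finrank_space], Or.inl D.two⟩))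
    have h' : ⁅Symp.iso (Symp.spB 2 F), Symp.iso (Symp.spB 2 F)⁆ = Symp.iso (Symp.spB 2 F) := by
      rw [← Subgroup.map_subtype_commutator, h, ← MonoidHom.range_eq_map, Subgroup.range_subtype]
    refine Subgroup.map_injective hinj ?_
    rw [Subgroup.map_commutator, Symp.spGL_eq_comap, Subgroup.map_comap_eq_self_of_surjective hsur,
      h']
  have h : commutator (Cfsg.spGL 2 F) = ⊤ := by
    refine Subgroup.map_injective (Cfsg.spGL 2 F).subtype_injective ?_
    rw [Subgroup.map_subtype_commutator, hperf, ← MonoidHom.range_eq_map, Subgroup.range_subtype]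
  rw [MonoidHom.range_eq_map, ← h, commutator_def, Subgroup.map_commutator, Cfsg.Geo.omegaGL,
    Subgroup.map_subtype_commutator, ← MonoidHom.range_eq_map]
  exact Subgroup.commutator_mono (by rintro _ ⟨g, rfl⟩; exact D.phi_mem_iso g)
    (by rintro _ ⟨g, rfl⟩; exact D.phi_mem_iso g)

omit D in
/-- The frame of coordinate lines. -/
def lines : Fin 5 → Submodule F V5 := fun k => Submodule.span F {Pi.single k (1 : F)}

omit D in
theorem qf_single (k : Fin 5) (c : F) : qf (c • (Pi.single k 1 : V5)) = c * c := by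
  simp [qf, Pi.single_apply]

theorem Data.lines_ortho : Cfsg.Geo.IsOrthogonalMDecomposition (qf (F := F)) 1 (lines (F := F)) := by
  have hne : ∀ k : Fin 5, (Pi.single k (1 : F) : V5) ≠ 0 := fun k h => by
    simpa using congrFun h k
  refine ⟨⟨⟨by norm_num, one_pos, fun k => finrank_span_singleton (hne k), ?_, ?_⟩,
    fun k w hw hw0 => ?_, fun k l hkl u hu v hv => ?_⟩, fun k l => ?_⟩
  · have := (Pi.basisFun F (Fin 5)).linearIndependent.iSupIndep_span_singleton
    simp only [Pi.basisFun_apply] at this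
    exact this
  · have h := (Pi.basisFun F (Fin 5)).span_eq
    rw [Submodule.span_range_eq_iSup] at h
    simp only [Pi.basisFun_apply] at h
    exact h
  · obtain ⟨c, rfl⟩ := Submodule.mem_span_singleton.mp hw
    have hc : c ≠ 0 := fun h => hw0 (by rw [h, zero_smul])
    have h : bf (Pi.single k 1) (c • (Pi.single k 1 : V5)) ≠ 0 := by
      simp [bf_apply, Pi.single_apply, D.two, hc]
    have h' : bf (c • (Pi.single k 1 : V5)) (Pi.single k 1) ≠ 0 := by
      simp [bf_apply, Pi.single_apply, D.two, hc]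
    refine ⟨⟨_, Submodule.mem_span_singleton_self _, ?_⟩,
      ⟨_, Submodule.mem_span_singleton_self _, ?_⟩⟩
    · rw [(space D.two).polar]; exact h
    · rw [(space D.two).polar]; exact h'
  · obtain ⟨c, rfl⟩ := Submodule.mem_span_singleton.mp hu
    obtain ⟨d, rfl⟩ := Submodule.mem_span_singleton.mp hv
    rw [(space D.two).polar]
    simp [bf_apply, Pi.single_apply, hkl, hkl.symm]
  · show ∃ f : (Submodule.span F {(Pi.single k 1 : V5)}) ≃ₗ[F] (Submodule.span F {(Pi.single l 1 : V5)}),
      ∀ w, qf ((f w : Submodule.span F {(Pi.single l 1 : V5)}) : V5) = qf (w : V5)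
    refine ⟨(LinearEquiv.toSpanNonzeroSingleton F V5 _ (hne k)).symm.trans
      (LinearEquiv.toSpanNonzeroSingleton F V5 _ (hne l)), fun w => ?_⟩
    obtain ⟨c, hc⟩ := (LinearEquiv.toSpanNonzeroSingleton F V5 _ (hne k)).surjective w
    rw [← hc, LinearEquiv.trans_apply, LinearEquiv.symm_apply_apply]
    show qf (c • (Pi.single l 1 : V5)) = qf (c • (Pi.single k 1 : V5))
    rw [qf_single, qf_single]

/-- An element permutes the lines exactly when it normalises the group. -/
theorem Data.stab_iff (hm : Cfsg.Geo.IsOfMinusType 2 R) (g : Cfsg.spGL 2 F) :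
    D.phi g ∈ Cfsg.Geo.decompositionStabilizer (lines (F := F)) ↔
      (g : GL I4 F) ∈ Cfsg.Geo.subgroupNormalizer R := by
  have hemb : ∀ k : Fin 5, emb e (Pi.single k 1) = (e k : M4) := fun k => by
    simp [emb_apply, Pi.single_apply, Finset.sum_ite_eq', ite_smul]
  constructor
  · rintro ⟨σ, hσ⟩
    refine ExtraTwo.Frame.mem_normalizer D.ctx D.frame fun k => ?_
    have hm' : (D.phi g).val *ᵥ Pi.single k 1 ∈ lines (F := F) (σ k) := by
      rw [← hσ k]; exact ⟨_, Submodule.mem_span_singleton_self _, rfl⟩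
    obtain ⟨c, hc⟩ := Submodule.mem_span_singleton.mp hm'
    have hq := Orth.mem_iso.mp (D.phi_mem_iso g) (Pi.single k 1)
    rw [← hc, ← one_smul F (Pi.single k 1 : V5), qf_single, qf_single, one_mul] at hq
    have e1 := D.emb_phi g (Pi.single k 1)
    rw [← hc, map_smul, hemb, hemb] at e1
    rcases mul_self_eq_one_iff.mp hq with rfl | rfl
    · rw [one_smul] at e1
      rw [show (g : GL I4 F) * e k * (g : GL I4 F)⁻¹ = e (σ k) from Units.ext e1.symm]
      exact D.frame.mem _
    · rw [neg_one_smul] at e1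
      rw [show (g : GL I4 F) * e k * (g : GL I4 F)⁻¹ = -e (σ k) from Units.ext e1.symm]
      exact D.ctx.neg_mem' (D.frame.mem _)
  · intro hg
    have himg : ∀ k, ∃ l, (g : GL I4 F) * e k * (g : GL I4 F)⁻¹ = e l ∨
        (g : GL I4 F) * e k * (g : GL I4 F)⁻¹ = -e l := fun k => by
      refine ExtraTwo.Frame.involution_eq D.ctx D.frame hm
        ((Subgroup.mem_normalizer_iff.1 hg _).1 (D.frame.mem k))
        (fun hc => ExtraTwo.Frame.noncentral D.ctx D.frame k fun x hx => ?_) ?_
      · have h := congrArg (fun z => (g : GL I4 F)⁻¹ * z * (g : GL I4 F))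
          (hc _ ((Subgroup.mem_normalizer_iff.1 hg x).1 hx))
        simpa [mul_assoc] using h
      · rw [show ∀ a b : GL I4 F, a * b * a⁻¹ * (a * b * a⁻¹) = a * (b * b) * a⁻¹ from
          fun a b => by group, D.frame.sq, mul_one, mul_inv_cancel]
    choose σ hσ using himg
    have hinj : Function.Injective σ := by
      intro k l hkl
      by_contra hne
      have hk := hσ k
      have hl := hσ l
      rw [hkl] at hk
      set a := (g : GL I4 F) * e k * (g : GL I4 F)⁻¹ with ha
      set b := (g : GL I4 F) * e l * (g : GL I4 F)⁻¹ with hb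
      have hcomm : a * b = b * a := by
        rcases hk with h | h <;> rcases hl with h' | h' <;> rw [h, h'] <;> simp
      have hcomm' : e k * e l = e l * e k := by
        rw [ha, hb] at hcomm
        have h := congrArg (fun z => (g : GL I4 F)⁻¹ * z * (g : GL I4 F)) hcomm
        simpa [mul_assoc] using h
      have h1 := D.frame.anti k l hne
      rw [hcomm'] at h1
      refine D.ctx.one_ne_neg (mul_right_cancel (b := e l * e k) ?_)
      rw [one_mul, neg_mul, one_mul]
      exact h1
    refine ⟨Equiv.ofBijective σ (Finite.injective_iff_bijective.mp hinj), fun k => ?_⟩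
    rw [lines, Submodule.map_span, Set.image_singleton, Matrix.toLin'_apply,
      Equiv.ofBijective_apply]
    have e1 : (D.phi g).val *ᵥ Pi.single k 1 = Pi.single (σ k) 1 ∨
        (D.phi g).val *ᵥ Pi.single k 1 = -Pi.single (σ k) 1 := by
      rcases hσ k with h | h
      · exact Or.inl (D.emb_inj (by rw [D.emb_phi, hemb, hemb, ← h, Units.val_mul, Units.val_mul]))
      · refine Or.inr (D.emb_inj ?_)
        rw [D.emb_phi, map_neg, hemb, hemb, ← Units.val_neg, ← h, Units.val_mul, Units.val_mul]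
    rcases e1 with h | h <;> rw [h]
    · rfl
    · show _ = Submodule.span F {Pi.single (σ k) 1}
      rw [← Submodule.span_neg, Set.neg_singleton, neg_neg]

omit D in
/-- The maximality statement. -/
theorem maximal [Fintype F] (hodd : Odd (Fintype.card F)) (hp : (Fintype.card F).Prime)
    {R : Subgroup (GL I4 F)} (hs : Cfsg.Geo.IsSymplecticTypeGroup 2 R)
    (hi : Cfsg.Geo.ActsAbsolutelyIrreducibly (Cfsg.Geo.matrixSet R)) (hle : R ≤ Cfsg.spGL 2 F)
    (h32 : Nat.card R = 32) (hz : Nat.card (Subgroup.center R) = 2)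
    (hm : Cfsg.Geo.IsOfMinusType 2 R) :
    Cfsg.Geo.IsMaximalIn (Cfsg.spGL 2 F)
      (Cfsg.Geo.subgroupNormalizer R ⊓ Cfsg.spGL 2 F) := by
  have h2 : (2 : F) ≠ 0 := Orth.two_ne_zero_of_odd_card hodd
  have hctx : ExtraTwo.Ctx R :=
    ExtraTwo.Ctx.mk' h2 (by simp) hs hi (by rw [h32, hz]) (Or.inl hz)
  obtain ⟨e, he⟩ := hctx.exists_frame_minus hm (by rw [ExtraTwo.card_zs, hz])
  have D : Data R e := ⟨hctx, he, hle⟩
  have hmax := FrameSmall.lines_maximal_five (space h2) hodd hp h2 (Fintype.card_fin 5)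
    D.lines_ortho
  rw [← D.range_eq] at hmax
  set N := Cfsg.Geo.subgroupNormalizer R ⊓ Cfsg.spGL 2 F with hN
  set S := Cfsg.Geo.decompositionStabilizer (lines (F := F)) ⊓ D.phi.range with hS
  have hmemN : ∀ g : Cfsg.spGL 2 F, (g : GL I4 F) ∈ N ↔ D.phi g ∈ S := fun g => by
    rw [hN, hS, Subgroup.mem_inf, Subgroup.mem_inf, D.stab_iff hm]
    exact ⟨fun h => ⟨h.1, g, rfl⟩, fun h => ⟨h.1, g.2⟩⟩
  refine ⟨lt_of_le_of_ne inf_le_right fun heq => ?_, fun L hNL hLG => ?_⟩
  · refine hmax.1.ne (le_antisymm inf_le_right ?_)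
    rintro _ ⟨g, rfl⟩
    exact (hmemN g).mp (by rw [heq]; exact g.2)
  · set L' : Subgroup (GL (Fin 5) F) := (L.subgroupOf (Cfsg.spGL 2 F)).map D.phi with hL'
    have hker : ∀ g : Cfsg.spGL 2 F, D.phi g = 1 → (g : GL I4 F) ∈ L := fun g hg =>
      hNL ((hmemN g).mpr (by rw [hg]; exact one_mem S))
    have h1 : S ≤ L' := by
      intro x hx
      obtain ⟨g, rfl⟩ := hx.2
      exact ⟨g, hNL ((hmemN g).mpr hx), rfl⟩
    rcases hmax.2 L' h1 (fun x ⟨g, _, hg⟩ => ⟨g, hg⟩) with h | h
    · refine Or.inl (le_antisymm (fun g hg => ?_) hNL)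
      exact (hmemN ⟨g, hLG hg⟩).mpr (h ▸ ⟨⟨g, hLG hg⟩, hg, rfl⟩)
    · refine Or.inr (le_antisymm hLG fun g hg => ?_)
      obtain ⟨l, hl, hlg⟩ : D.phi ⟨g, hg⟩ ∈ L' := h ▸ ⟨⟨g, hg⟩, rfl⟩
      have := hker (⟨g, hg⟩ * l⁻¹) (by rw [map_mul, map_inv, hlg, mul_inv_cancel])
      have h3 := mul_mem this (show (l : GL I4 F) ∈ L from hl)
      simpa using h3

end Cfsg.Lib.Linear.SpFour.Klein
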