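import Cfsg.Agent.Lib.Linear.SpFour.PairCore

/-!
# The stabiliser of two complementary singular planes is maximal in `Sp₄`
-/

set_option autoImplicit false
set_option linter.unusedSimpArgs false
open Cfsg

namespace Cfsg.Lib.Linear.SpFour

open scoped Matrix
open Cfsg.Lib.Linear.Symp Cfsg.Lib.Linear.SpGeo.Pair Module

/-- The maximality statement. -/
theorem pair_max {F : Type*} [Field F] [Fintype F] (hodd : Odd (Fintype.card F)) (h5 : 5 ≤ Fintype.card F) (D : Fin 2 → Submodule F (Fin 2 ⊕ Fin 2 → F)) (hD : Cfsg.Geo.IsMDecomposition 2 D) (hts : ∀ i, Cfsg.Geo.IsTotallySingularFor (Cfsg.sympForm 2 F) (D i)) : Cfsg.Geo.IsMaximalIn (Cfsg.spGL 2 F) (Cfsg.Geo.decompositionStabilizer D ⊓ Cfsg.spGL 2 F) := by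
  classical
  set B := spB 2 F with hBdef
  have hA : B.IsAlt := spB_isAlt 2 F
  have hB : B.Nondegenerate := spB_nondegenerate 2 F
  have hfin := hD.finrank_eq
  have hsing : ∀ i, ∀ x ∈ D i, ∀ y ∈ D i, B x y = 0 := fun i x hx y hy => by
    rw [spB_apply]; exact hts i x hx y hy
  have hc : ∀ i : Fin 2, IsCompl (D i) (D (Equiv.swap 0 1 i)) := by
    have h01 : IsCompl (D 0) (D 1) := by
      refine ⟨hD.indep.pairwiseDisjoint (by decide : (0 : Fin 2) ≠ 1), ?_⟩
      rw [codisjoint_iff, eq_top_iff, ← hD.iSup_eq_top, iSup_le_iff, Fin.forall_fin_two]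
      exact ⟨le_sup_left, le_sup_right⟩
    rw [Fin.forall_fin_two]
    exact ⟨by simpa using h01, by simpa using h01.symm⟩
  have h20 : (2 : F) ≠ 0 := by
    intro h
    haveI : CharP F 2 := CharTwo.of_one_ne_zero_of_two_eq_zero one_ne_zero h
    have := FiniteField.even_card_of_char_two (F := F) (ringChar.eq F 2)
    rw [Nat.odd_iff] at hodd
    omega
  let e : GL (Fin 2 ⊕ Fin 2) F ≃* ((Fin 2 ⊕ Fin 2 → F) ≃ₗ[F] (Fin 2 ⊕ Fin 2 → F)) := toEquiv
  have hsp : ∀ g, g ∈ Cfsg.spGL 2 F ↔ e g ∈ iso B := by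
    intro g
    constructor
    · intro h u v
      rw [spB_apply, spB_apply]
      exact h u v
    · intro h u v
      have := h u v
      rw [spB_apply, spB_apply] at this
      exact this
  set N := Cfsg.Geo.decompositionStabilizer D ⊓ Cfsg.spGL 2 F
  have hmemN : ∀ g : GL (Fin 2 ⊕ Fin 2) F, e g ∈ iso B → ∀ σ : Equiv.Perm (Fin 2),
      (∀ i, ∀ x ∈ D i, e g x ∈ D (σ i)) → g ∈ N := by
    intro g hg σ hσ
    refine Subgroup.mem_inf.mpr ⟨⟨σ, fun i => ?_⟩, (hsp g).mpr hg⟩
    refine Submodule.eq_of_le_of_finrank_le ?_ (le_of_eq ?_)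
    · rintro _ ⟨x, hx, rfl⟩
      exact hσ i x hx
    · rw [hfin, show Matrix.toLin' (g : Matrix _ _ F) = (e g).toLinearMap from
        LinearMap.ext fun x => rfl, LinearEquiv.finrank_map_eq, hfin]
  refine ⟨lt_of_le_of_ne inf_le_right fun heq => ?_, fun L hNL hLG => ?_⟩
  · have h01 := hc 0
    rw [Equiv.swap_apply_left] at h01
    obtain ⟨b, hb, hb0⟩ := Submodule.exists_mem_ne_zero_of_ne_bot
      (fun he : D 1 = ⊥ => by have := hfin 1; rw [he, finrank_bot] at this; omega)
    obtain ⟨x, hx, hxb⟩ : ∃ x ∈ D 0, B x b ≠ 0 := by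
      by_contra h; push Not at h; exact hb0 (pairing hB hA h01 (hsing 1) hb h)
    have hmem : e.symm (tv hA b 1) ∈ N := by
      rw [heq, hsp, MulEquiv.apply_symm_apply]; exact tv_mem_iso hA _ _
    obtain ⟨σ, hσ⟩ := hmem.1
    have h1 : e (e.symm (tv hA b 1)) x ∈ D (σ 0) := by rw [← hσ 0]; exact ⟨x, hx, rfl⟩
    rw [MulEquiv.apply_symm_apply, tv_apply, one_mul] at h1
    have hsm : B x b • b ∈ D 1 := (D 1).smul_mem _ hb
    rcases Fin.exists_fin_two.mp ⟨σ 0, rfl⟩ with hσ0 | hσ0 <;> rw [hσ0] at h1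
    · have : B x b • b ∈ D 0 ⊓ D 1 := ⟨by simpa using sub_mem h1 hx, hsm⟩
      rw [h01.inf_eq_bot, Submodule.mem_bot, smul_eq_zero] at this
      exact this.elim hxb hb0
    · have : x ∈ D 0 ⊓ D 1 := ⟨hx, by simpa using sub_mem h1 hsm⟩
      rw [h01.inf_eq_bot, Submodule.mem_bot] at this
      exact hxb (by simp [this])
  · by_cases hLN : L ≤ N
    · exact Or.inl (le_antisymm hLN hNL)
    right
    obtain ⟨g, hgL, hgN⟩ := SetLike.not_le_iff_exists.mp hLN
    let L' := L.map e.toMonoidHom
    have hL' : L' ≤ iso B := by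
      rintro _ ⟨h, hh, rfl⟩
      exact (hsp h).mp (hLG hh)
    have hsub : ∀ x, e.symm x ∈ N → x ∈ L' := fun x hx => ⟨e.symm x, hNL hx, e.apply_symm_apply x⟩
    have hsr : ∀ i, ∀ a ∈ D i, ∀ b ∈ D (Equiv.swap 0 1 i), B a b = 0 → sr hA a b ∈ L' := by
      intro i a ha b hb hab
      refine hsub _ (hmemN _ (by rw [MulEquiv.apply_symm_apply]; exact sr_mem_iso hA a b) 1 fun j x hx => ?_)
      rw [MulEquiv.apply_symm_apply, sr_apply hA hab, Equiv.Perm.one_apply]
      have hji : j = i ∨ j = Equiv.swap 0 1 i := (by decide : ∀ i j : Fin 2, j = i ∨ j = Equiv.swap 0 1 i) i j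
      rcases hji with rfl | rfl
      · rw [hsing j x hx a ha, zero_smul, add_zero]
        exact add_mem hx ((D j).smul_mem _ ha)
      · rw [hsing _ x hx b hb, zero_smul, add_zero]
        exact add_mem hx ((D _).smul_mem _ hb)
    obtain ⟨s, hs, hs0, hs1⟩ := exists_swap hB hA (by simpa using hc 0 : IsCompl (D 0) (D 1))
      (hsing 0) (hsing 1) ((hfin 0).trans (hfin 1).symm)
    have hsL : s ∈ L' := hsub s (hmemN _ (by rw [MulEquiv.apply_symm_apply]; exact hs) (Equiv.swap 0 1)
      (by rw [MulEquiv.apply_symm_apply, Fin.forall_fin_two]; exact ⟨by simpa using hs0, by simpa using hs1⟩))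
    have hsswap : ∀ i, ∀ x ∈ D i, s x ∈ D (Equiv.swap 0 1 i) := by
      rw [Fin.forall_fin_two]; exact ⟨by simpa using hs0, by simpa using hs1⟩
    have h01 : IsCompl (D 0) (D 1) := by simpa using hc 0
    have P : PairCtx B hA L' (D 0) (D 1) :=
      { nondeg := hB, compl := h01, sing₁ := hsing 0, sing₂ := hsing 1, dim₁ := hfin 0,
        dim₂ := hfin 1, two := h20, mu := exists_mu h5, le := hL'
        short := fun a ha b hb h => hsr 0 a ha b (by simpa using hb) h
        torus := fun a ha f hf haf k hk => hsub _ (hmemN _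
          (by rw [MulEquiv.apply_symm_apply]; exact dil_mem_iso hA haf hk) 1
          (by
            rw [MulEquiv.apply_symm_apply, Fin.forall_fin_two]
            refine ⟨fun x hx => ?_, fun x hx => ?_⟩
            · rw [dil_apply, hsing 0 x hx a ha, mul_zero, zero_smul, sub_zero,
                Equiv.Perm.one_apply]
              exact add_mem hx ((D 0).smul_mem _ ha)
            · rw [dil_apply, hsing 1 x hx f hf, mul_zero, zero_smul, add_zero,
                Equiv.Perm.one_apply]
              exact sub_mem hx ((D 1).smul_mem _ hf))) }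
    have pureC : ∀ z, z ≠ 0 → z ∈ centres hA L' →
        ∃ i, ∃ y ∈ D i, y ≠ 0 ∧ ∀ c, tv hA y c ∈ L' := fun z hz0 hz => by
      rcases P.pure hz0 hz with ⟨y, hy, hy0, hyC⟩ | ⟨y, hy, hy0, hyC⟩
      · exact ⟨0, y, hy, hy0, hyC⟩
      · exact ⟨1, y, hy, hy0, hyC⟩
    -- a long root element with centre in one of the two subspaces
    obtain ⟨i, y, hy, hy0, hlong⟩ : ∃ i, ∃ y ∈ D i, y ≠ 0 ∧ ∀ c, tv hA y c ∈ L' := by
      by_contra hno
      push Not at hno
      have key : ∀ x ∈ D 0, ∀ y ∈ D 1, B x y = 0 → x ≠ 0 → y ≠ 0 →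
          (e g x ∈ D 0 ∧ e g y ∈ D 1) ∨ (e g x ∈ D 1 ∧ e g y ∈ D 0) := by
        intro x hx y hy hxy hx0 hy0
        have hg' : e g ∈ L' := ⟨g, hgL, rfl⟩
        have huv := L'.mul_mem (L'.mul_mem hg' (hsr 0 x hx y (by simpa using hy) hxy)) (L'.inv_mem hg')
        rw [sr_conj hA (hL' hg')] at huv
        have hguv : B (e g x) (e g y) = 0 := by rw [hL' hg']; exact hxy
        have h01 : IsCompl (D 0) (D 1) := by simpa using hc 0
        obtain ⟨u₁, hu₁, u₂, hu₂, hu⟩ := Submodule.mem_sup.mp
          (h01.sup_eq_top ▸ Submodule.mem_top : e g x ∈ D 0 ⊔ D 1)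
        obtain ⟨v₁, hv₁, v₂, hv₂, hv⟩ := Submodule.mem_sup.mp
          (h01.sup_eq_top ▸ Submodule.mem_top : e g y ∈ D 0 ⊔ D 1)
        have hfam : ∀ c : F, sr hA (c • e g x) (e g y) ∈ L' := fun c => by
          have h1 := L'.mul_mem (L'.mul_mem hg' (hsr 0 (c • x) ((D 0).smul_mem _ hx) y
            (by simpa using hy) (by simp [hxy]))) (L'.inv_mem hg')
          rwa [sr_conj hA (hL' hg'), map_smul] at h1
        have e2 : u₂ = 0 ∨ v₂ = 0 := by
          by_contra h
          push Not at h
          obtain ⟨z, hz0, hz⟩ := P.exists_centre hu₁ hu₂ hv₁ hv₂ h.1 h.2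
            (by rw [hu, hv]; exact hguv) (by rw [hu, hv]; exact hfam)
          obtain ⟨i, y', hy', hy'0, hl⟩ := pureC z hz0 hz
          obtain ⟨c, hc⟩ := hno i y' hy' hy'0
          exact hc (hl c)
        have e1 : u₁ = 0 ∨ v₁ = 0 := by
          by_contra h
          push Not at h
          obtain ⟨z, hz0, hz⟩ := P.symm.exists_centre hu₂ hu₁ hv₂ hv₁ h.1 h.2
            (by rw [add_comm u₂, hu, add_comm v₂, hv]; exact hguv)
            (by rw [add_comm u₂, hu, add_comm v₂, hv]; exact hfam)
          obtain ⟨i, y', hy', hy'0, hl⟩ := pureC z hz0 hz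
          obtain ⟨c, hc⟩ := hno i y' hy' hy'0
          exact hc (hl c)
        have hgx : e g x ≠ 0 := fun h => hx0 ((map_eq_zero_iff _ (e g).injective).mp h)
        have hgy : e g y ≠ 0 := fun h => hy0 ((map_eq_zero_iff _ (e g).injective).mp h)
        rcases e2 with h | h <;> rcases e1 with h' | h'
        · exact absurd (by rw [← hu, h, h', add_zero]) hgx
        · left
          rw [← hu, ← hv, h, h', add_zero, zero_add]
          exact ⟨hu₁, hv₂⟩
        · right
          rw [← hu, ← hv, h, h', add_zero, zero_add]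
          exact ⟨hu₂, hv₁⟩
        · exact absurd (by rw [← hv, h, h', add_zero]) hgy
      have h01 : IsCompl (D 0) (D 1) := by simpa using hc 0
      have ex : ∀ (i j : Fin 2), IsCompl (D i) (D j) → ∀ x, ∃ y ∈ D j, B x y = 0 ∧ y ≠ 0 := by
        intro i j _ x
        have h1 := LinearMap.finrank_range_add_finrank_ker ((B x).comp (D j).subtype)
        have h2 := Submodule.finrank_le (LinearMap.range ((B x).comp (D j).subtype))
        rw [Module.finrank_self] at h2
        rw [hfin] at h1
        obtain ⟨y, hy, hy0⟩ := Submodule.exists_mem_ne_zero_of_ne_bot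
          (fun he : LinearMap.ker ((B x).comp (D j).subtype) = ⊥ => by
            rw [he, finrank_bot] at h1; omega)
        exact ⟨y, y.2, hy, fun h => hy0 (Subtype.ext h)⟩
      have inunion : ∀ i, ∀ x ∈ D i, e g x ∈ D 0 ∨ e g x ∈ D 1 := by
        rw [Fin.forall_fin_two]
        constructor
        · intro x hx
          rcases eq_or_ne x 0 with rfl | hx0
          · simp
          obtain ⟨y, hy, hxy, hy0⟩ := ex 0 1 h01 x
          exact (key x hx y hy hxy hx0 hy0).imp And.left And.left
        · intro y hy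
          rcases eq_or_ne y 0 with rfl | hy0
          · simp
          obtain ⟨x, hx, hyx, hx0⟩ := ex 1 0 h01.symm y
          have hxy : B x y = 0 := by rw [← LinearMap.IsAlt.neg hA, hyx, neg_zero]
          exact (key x hx y hy hxy hx0 hy0).symm.imp And.right And.right
      have hone : ∀ i, ∃ j, ∀ x ∈ D i, e g x ∈ D j := by
        intro i
        by_contra hne
        push Not at hne
        obtain ⟨x, hx, hx0⟩ := hne 0
        obtain ⟨x', hx', hx1⟩ := hne 1
        have a1 := (inunion i x hx).resolve_left hx0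
        have a2 := (inunion i x' hx').resolve_right hx1
        rcases inunion i (x + x') (add_mem hx hx') with h | h <;> rw [map_add] at h
        · exact hx0 (by simpa using sub_mem h a2)
        · exact hx1 (by simpa using sub_mem h a1)
      choose σ hσ using hone
      have hinj : Function.Injective σ := by
        intro a b hab
        by_contra hne
        have h1 : (D a ⊔ D b).map (e g).toLinearMap ≤ D (σ a) := by
          rw [Submodule.map_sup, sup_le_iff]
          exact ⟨fun _ ⟨z, hz, he⟩ => he ▸ hσ a z hz, fun _ ⟨z, hz, he⟩ => by rw [hab]; exact he ▸ hσ b z hz⟩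
        have h2 := Submodule.finrank_mono h1
        rw [LinearEquiv.finrank_map_eq] at h2
        have h3 := Submodule.finrank_sup_add_finrank_inf_eq (D a) (D b)
        rw [disjoint_iff.mp (hD.indep.pairwiseDisjoint hne), finrank_bot, hfin, hfin] at h3
        rw [hfin] at h2
        omega
      exact hgN (hmemN g ((hsp g).mp (hLG hgL))
        (Equiv.ofBijective σ (Finite.injective_iff_bijective.mp hinj)) (fun i x hx => hσ i x hx))
    -- all centres
    have hi' : ∀ i : Fin 2, Equiv.swap 0 1 (Equiv.swap 0 1 i) = i := Equiv.swap_apply_self 0 1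
    have hWi : ∀ y' ∈ D i, y' ∈ centres hA L' :=
      spread hB hA (hc i).symm (hsing i) hL'
        (fun a ha b hb h => hsr _ a ha b (by rw [hi']; exact hb) h) hy hy0 hlong
    have hWj : ∀ x ∈ D (Equiv.swap 0 1 i), x ∈ centres hA L' := by
      intro x hx
      have h1 := hsswap _ x hx
      rw [hi'] at h1
      have h2 := centres_invariant hA hL' (L'.inv_mem hsL) (hWi _ h1)
      rwa [show s⁻¹ (s x) = x by rw [← LinearEquiv.mul_apply, inv_mul_cancel]; rfl] at h2
    have hall : L' = iso B := by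
      refine eq_iso_of_centres hB hA hL' fun v => ?_
      obtain ⟨a, ha, b, hb, rfl⟩ := Submodule.mem_sup.mp
        ((hc i).sup_eq_top ▸ Submodule.mem_top : v ∈ D i ⊔ D (Equiv.swap 0 1 i))
      rcases eq_or_ne a 0 with rfl | ha0
      · rw [zero_add]; exact hWj b hb
      have step : ∀ w ∈ centres hA L', ∀ b ∈ D (Equiv.swap 0 1 i), B w b ≠ 0 →
          w + b ∈ centres hA L' := by
        intro w hw b hb hwb
        have h := centres_invariant hA hL' (hWj b hb (B w b)⁻¹) hw
        rwa [tv_apply, inv_mul_cancel₀ hwb, one_smul] at h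
      by_cases hab : B a b = 0
      · obtain ⟨b₁, hb₁, hab₁⟩ : ∃ b₁ ∈ D (Equiv.swap 0 1 i), B a b₁ ≠ 0 := by
          by_contra h
          push Not at h
          exact ha0 (pairing hB hA (hc i).symm (hsing i) ha fun x hx => by
            rw [← LinearMap.IsAlt.neg hA, h x hx, neg_zero])
        have h := step _ (step a (hWi a ha) b₁ hb₁ hab₁) (b - b₁) (sub_mem hb hb₁) (by
          rw [map_add, LinearMap.add_apply, hsing _ b₁ hb₁ _ (sub_mem hb hb₁), add_zero, map_sub,
            hab, zero_sub, neg_ne_zero]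
          exact hab₁)
        rwa [add_assoc, add_sub_cancel] at h
      · exact step a (hWi a ha) b hb hab
    refine le_antisymm hLG fun x hx => ?_
    have : e x ∈ L' := hall ▸ (hsp x).mp hx
    obtain ⟨y, hy, hyx⟩ := this
    exact e.injective hyx ▸ hy

end Cfsg.Lib.Linear.SpFour
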