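import Cfsg.Agent.Lib.Linear.SpGeo.Pair
import Cfsg.Agent.Lib.Linear.SpFour.Common

/-!
# A transvection above the stabiliser of two complementary singular planes in dimension four
-/

set_option autoImplicit false
set_option linter.unusedSectionVars false
set_option linter.unusedSimpArgs false

namespace Cfsg.Lib.Linear.SpFour

open Module Cfsg.Lib.Linear.Symp Cfsg.Lib.Linear.SpGeo.Pair

variable {F V : Type*} [Field F] [AddCommGroup V] [Module F V] [FiniteDimensional F V]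
  {B : LinearMap.BilinForm F V}

/-- A group containing the stabiliser of a pair of singular planes. -/
structure PairCtx (B : LinearMap.BilinForm F V) (hA : B.IsAlt) (L : Subgroup (V ≃ₗ[F] V))
    (W₁ W₂ : Submodule F V) : Prop where
  nondeg : B.Nondegenerate
  compl : IsCompl W₁ W₂
  sing₁ : ∀ x ∈ W₁, ∀ y ∈ W₁, B x y = 0
  sing₂ : ∀ x ∈ W₂, ∀ y ∈ W₂, B x y = 0
  dim₁ : finrank F W₁ = 2
  dim₂ : finrank F W₂ = 2
  two : (2 : F) ≠ 0
  mu : ∃ μ : F, μ ≠ 0 ∧ μ ^ 2 ≠ 1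
  le : L ≤ iso B
  short : ∀ a ∈ W₁, ∀ b ∈ W₂, B a b = 0 → sr hA a b ∈ L
  torus : ∀ e ∈ W₁, ∀ f ∈ W₂, ∀ (hef : B e f = 1) (k : F) (hk : k ≠ 0), dil hA hef hk ∈ L

variable {hA : B.IsAlt} {L : Subgroup (V ≃ₗ[F] V)} {W₁ W₂ : Submodule F V}

theorem PairCtx.symm (P : PairCtx B hA L W₁ W₂) : PairCtx B hA L W₂ W₁ where
  nondeg := P.nondeg
  compl := P.compl.symm
  sing₁ := P.sing₂
  sing₂ := P.sing₁
  dim₁ := P.dim₂
  dim₂ := P.dim₁
  two := P.two
  mu := P.mu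
  le := P.le
  short a ha b hb h := by
    rw [sr_comm hA h]
    exact P.short b hb a ha (by rw [swapB hA, h, neg_zero])
  torus e he f hf hef k hk := by
    have h' : B (-f) e = 1 := by
      rw [map_neg, LinearMap.neg_apply, swapB hA, hef, neg_neg]
    have h'' : B e (-(-f)) = 1 := by rwa [neg_neg]
    have h := P.torus (-f) (W₁.neg_mem hf) e he h' k⁻¹ (inv_ne_zero hk)
    have e2 : dil hA hef hk = dil hA h'' hk := LinearEquiv.ext fun x => by
      rw [dil_apply, dil_apply, neg_neg]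
    rw [e2, dil_swap hA h' h'' hk]
    exact h

variable (P : PairCtx B hA L W₁ W₂)
include P

theorem PairCtx.fam_conj {h : V ≃ₗ[F] V} (hh : h ∈ L) {u v : V}
    (hfam : ∀ c : F, sr hA (c • u) v ∈ L) (c : F) : sr hA (c • h u) (h v) ∈ L := by
  have := mul_mem (mul_mem hh (hfam c)) (inv_mem hh)
  rwa [sr_conj hA (P.le hh), map_smul] at this

/-- A short element with one centre in `W₂` gives a transvection there. -/
theorem PairCtx.shift {b v : V} (hb : b ∈ W₂) (hbv : B b v = 0) {a : V} (ha : a ∈ W₁)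
    (hab : B a b = 0) (hva : B v a ≠ 0) (hfam : ∀ c : F, sr hA (c • b) v ∈ L) :
    b ∈ centres hA L := by
  refine centre_of_scaled hA (mul_ne_zero P.two hva) fun c => ?_
  have hh := P.fam_conj (P.short a ha b hb hab) hfam c
  have hvb : B v b = 0 := by rw [swapB hA, hbv, neg_zero]
  rw [sr_apply hA hab, sr_apply hA hab, hA.self_eq_zero, swapB hA a b, hab, neg_zero, zero_smul,
    zero_smul, add_zero, add_zero, hvb, zero_smul, add_zero] at hh
  have h := mul_mem hh (hfam (-c))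
  convert h using 1
  refine LinearEquiv.ext fun x => ?_
  rw [LinearEquiv.mul_apply, tv_apply, sr_apply hA (by simp [hbv, hA.self_eq_zero]),
    sr_apply hA (by simp [hbv, hA.self_eq_zero])]
  simp [hbv, hvb, hA.self_eq_zero]
  module

/-- The line meets `W₂`. -/
theorem PairCtx.meets {u₂ v₁ v₂ : V} {σ : F} (hv₁ : v₁ ∈ W₁) (hv₂ : v₂ ∈ W₂)
    (hα : B v₁ v₂ ≠ 0) (hb : u₂ - σ • v₂ ∈ W₂) (hb0 : u₂ - σ • v₂ ≠ 0)
    (hbv : B (u₂ - σ • v₂) (v₁ + v₂) = 0)
    (hfam : ∀ c : F, sr hA (c • (σ • (v₁ + v₂) + (u₂ - σ • v₂))) (v₁ + v₂) ∈ L) :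
    ∃ z, z ≠ 0 ∧ z ∈ centres hA L := by
  set b := u₂ - σ • v₂
  have hbv₁ : B b v₁ = 0 := by
    rw [map_add, P.sing₂ b hb v₂ hv₂, add_zero] at hbv
    exact hbv
  have hv0 : v₁ + v₂ ≠ 0 := fun h => hα (by
    rw [eq_neg_of_add_eq_zero_left h, map_neg, LinearMap.neg_apply, hA.self_eq_zero, neg_zero])
  rcases eq_or_ne σ 0 with hσ | hσ
  · have hne : ∀ t : F, v₂ ≠ t • b := fun t e => hα (by
      rw [e, map_smul, swapB hA b v₁, hbv₁, neg_zero, smul_zero])
    obtain ⟨a, ha, hab, hav⟩ := exists_sep P.nondeg hA P.compl P.sing₂ hb hv₂ hne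
    refine ⟨b, hb0, P.shift hb hbv ha hab ?_ fun c => by simpa [hσ] using hfam c⟩
    rwa [map_add, LinearMap.add_apply, P.sing₁ v₁ hv₁ a ha, zero_add, swapB hA a v₂, neg_ne_zero]
  · obtain ⟨a₁, ha₁, ha₁v, ha₁b⟩ := exists_sep P.nondeg hA P.compl P.sing₂ hv₂ hb (u := b)
      (fun t e => by
        rw [e, map_smul, LinearMap.smul_apply, swapB hA v₁ v₂, smul_eq_mul] at hbv₁
        rcases mul_eq_zero.mp hbv₁ with h | h
        · exact hb0 (by rw [e, h, zero_smul])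
        · exact hα (neg_eq_zero.mp h))
    set e := (B a₁ b)⁻¹ • a₁ with he
    have hef : B e b = 1 := by simp [he, ha₁b]
    obtain ⟨μ, hμ0, hμ2⟩ := P.mu
    have hμ1 : μ ≠ 1 := fun h => hμ2 (by rw [h, one_pow])
    have hh := P.torus e (W₁.smul_mem _ ha₁) b hb hef μ hμ0
    have hev : B (v₁ + v₂) e = 0 := by
      rw [map_add, LinearMap.add_apply, he, map_smul, map_smul, P.sing₁ v₁ hv₁ a₁ ha₁,
        swapB hA a₁ v₂, ha₁v]
      simp
    have hvb : B (v₁ + v₂) b = 0 := by rw [swapB hA, hbv, neg_zero]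
    have hfix : dil hA hef hμ0 (v₁ + v₂) = v₁ + v₂ := by rw [dil_apply, hev, hvb]; simp
    have hbb : dil hA hef hμ0 b = μ⁻¹ • b := by
      rw [dil_apply, hA.self_eq_zero, swapB hA e b, hef]
      module
    refine ⟨_, hv0, centre_of_scaled hA (mul_ne_zero (mul_ne_zero P.two hσ)
      (sub_ne_zero.mpr hμ1)) fun c => ?_⟩
    have h := mul_mem (P.fam_conj hh hfam (c * μ)) (hfam (-c))
    rw [map_add, map_smul, hfix, hbb] at h
    generalize v₁ + v₂ = v at *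
    convert h using 1
    refine LinearEquiv.ext fun x => ?_
    rw [LinearEquiv.mul_apply, tv_apply, sr_apply hA (by simp [hbv, hA.self_eq_zero]),
      sr_apply hA (by simp [hbv, hA.self_eq_zero])]
    simp [hbv, hvb, hA.self_eq_zero, smul_smul, mul_comm, mul_left_comm]
    match_scalars <;> field_simp <;> ring

/-- The second centre is non-isotropic for the pairing. -/
theorem PairCtx.of_nonisotropic {u₁ u₂ v₁ v₂ : V} (hu₁ : u₁ ∈ W₁) (hu₂ : u₂ ∈ W₂)
    (hv₁ : v₁ ∈ W₁) (hv₂ : v₂ ∈ W₂) (hu₂0 : u₂ ≠ 0) (hα : B v₁ v₂ ≠ 0)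
    (h : B (u₁ + u₂) (v₁ + v₂) = 0) (hfam : ∀ c : F, sr hA (c • (u₁ + u₂)) (v₁ + v₂) ∈ L) :
    ∃ z, z ≠ 0 ∧ z ∈ centres hA L := by
  have hv0 : v₁ + v₂ ≠ 0 := fun h0 => hα (by
    rw [eq_neg_of_add_eq_zero_left h0, map_neg, LinearMap.neg_apply, hA.self_eq_zero, neg_zero])
  by_cases hu : ∃ σ : F, u₁ + u₂ = σ • (v₁ + v₂)
  · obtain ⟨σ, hσ⟩ := hu
    have hσ0 : σ ≠ 0 := fun h0 => by
      rw [h0, zero_smul] at hσ
      have h1 : u₂ ∈ W₁ ⊓ W₂ := ⟨by rw [eq_neg_of_add_eq_zero_right hσ]; exact W₁.neg_mem hu₁, hu₂⟩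
      rw [P.compl.inf_eq_bot, Submodule.mem_bot] at h1
      exact hu₂0 h1
    refine ⟨_, hv0, centre_of_scaled hA (mul_ne_zero P.two hσ0) fun c => ?_⟩
    convert hfam c using 1
    refine LinearEquiv.ext fun x => ?_
    rw [tv_apply, sr_apply hA (by rw [map_smul, LinearMap.smul_apply, h, smul_zero]), hσ]
    simp [smul_smul]
    module
  by_cases hu1 : ∃ σ : F, u₁ = σ • v₁
  · obtain ⟨σ, rfl⟩ := hu1
    have e : σ • v₁ + u₂ = σ • (v₁ + v₂) + (u₂ - σ • v₂) := by module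
    rw [e] at hfam h
    refine P.meets hv₁ hv₂ hα (sub_mem hu₂ (W₂.smul_mem _ hv₂)) (fun h0 => hu ⟨σ, ?_⟩) ?_ hfam
    · rw [e, h0, add_zero]
    · rwa [LinearMap.BilinForm.add_left, LinearMap.BilinForm.smul_left, hA.self_eq_zero,
        mul_zero, zero_add] at h
  by_cases hu2 : ∃ σ : F, u₂ = σ • v₂
  · obtain ⟨σ, rfl⟩ := hu2
    have e : u₁ + σ • v₂ = σ • (v₂ + v₁) + (u₁ - σ • v₁) := by module
    rw [e, add_comm v₁ v₂] at hfam h
    refine P.symm.meets hv₂ hv₁ (by rw [swapB hA]; exact neg_ne_zero.mpr hα)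
      (sub_mem hu₁ (W₁.smul_mem _ hv₁)) (fun h0 => hu1 ⟨σ, sub_eq_zero.mp h0⟩) ?_ hfam
    rwa [LinearMap.BilinForm.add_left, LinearMap.BilinForm.smul_left, hA.self_eq_zero,
        mul_zero, zero_add] at h
  push Not at hu1 hu2
  obtain ⟨f, hf, hfv, hfu⟩ := exists_sep P.nondeg hA P.compl.symm P.sing₁ hv₁ hu₁ hu1
  obtain ⟨e₀, he₀, he₀v, he₀u⟩ := exists_sep P.nondeg hA P.compl P.sing₂ hv₂ hu₂ hu2
  have he₀f : B e₀ f ≠ 0 := by
    intro h0
    -- then `f` would be orthogonal to the whole of `W₁`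
    have hne : ∀ t : F, v₁ ≠ t • e₀ := fun t e => hα (by
      rw [e, map_smul, LinearMap.smul_apply, he₀v, smul_zero])
    have hv10 : v₁ ≠ 0 := fun e => hα (by simp [e])
    have he0 : e₀ ≠ 0 := fun e => he₀u (by simp [e])
    have hli : LinearIndependent F ![e₀, v₁] :=
      (LinearIndependent.pair_iff' he0).mpr fun t e => hne t e.symm
    have hspan : Submodule.span F (Set.range ![e₀, v₁]) = W₁ := by
      refine Submodule.eq_of_le_of_finrank_eq (Submodule.span_le.mpr ?_) ?_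
      · rintro _ ⟨i, rfl⟩
        fin_cases i
        · exact he₀
        · exact hv₁
      · rw [finrank_span_eq_card hli, P.dim₁, Fintype.card_fin]
    have hle : W₁ ≤ LinearMap.ker (B.flip f) := by
      rw [← hspan, Submodule.span_le]
      rintro _ ⟨i, rfl⟩
      fin_cases i
      · exact h0
      · show B v₁ f = 0
        rw [swapB hA, hfv, neg_zero]
    have hf0 := pairing P.nondeg hA P.compl P.sing₂ hf fun a ha => hle ha
    exact hfu (by simp [hf0])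
  set e := (B e₀ f)⁻¹ • e₀ with he
  have hef : B e f = 1 := by simp [he, he₀f]
  obtain ⟨μ, hμ0, hμ2⟩ := P.mu
  have hh := P.torus e (W₁.smul_mem _ he₀) f hf hef μ hμ0
  have hve : B (v₁ + v₂) e = 0 := by
    rw [map_add, LinearMap.add_apply, he, map_smul, map_smul, P.sing₁ v₁ hv₁ e₀ he₀,
      swapB hA e₀ v₂, he₀v]
    simp
  have hvf : B (v₁ + v₂) f = 0 := by
    rw [map_add, LinearMap.add_apply, P.sing₂ v₂ hv₂ f hf, swapB hA f v₁, hfv]
    simp
  have hfix : dil hA hef hμ0 (v₁ + v₂) = v₁ + v₂ := by rw [dil_apply, hve, hvf]; simp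
  have hu_f : B (u₁ + u₂) f = B u₁ f := by simp [P.sing₂ u₂ hu₂ f hf]
  have hu_e : B (u₁ + u₂) e = B u₂ e := by
    simp [he, P.sing₁ u₁ hu₁ e₀ he₀]
  set w := dil hA hef hμ0 (u₁ + u₂) with hw
  have hwu : B w (u₁ + u₂) = (μ⁻¹ - μ) * (B u₁ f * B u₂ e) := by
    rw [hw, dil_apply]
    simp only [map_add, map_sub, map_smul, LinearMap.sub_apply, LinearMap.smul_apply,
      LinearMap.add_apply, smul_eq_mul]
    have h1 : B e u₂ = -B u₂ e := swapB hA u₂ e
    have h2 : B f u₁ = -B u₁ f := swapB hA u₁ f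
    have h3 : B f u₂ = 0 := P.sing₂ f hf u₂ hu₂
    have h4 : B e u₁ = 0 := P.sing₁ e (W₁.smul_mem _ he₀) u₁ hu₁
    have h5 : B u₁ u₂ + B u₂ u₁ = 0 := by rw [swapB hA u₁ u₂]; ring
    rw [h1, h2, h3, h4, P.sing₁ u₁ hu₁ u₁ hu₁, P.sing₂ u₂ hu₂ u₂ hu₂,
      P.sing₁ u₁ hu₁ e (W₁.smul_mem _ he₀), P.sing₂ u₂ hu₂ f hf]
    linear_combination h5
  have hwu0 : B w (u₁ + u₂) ≠ 0 := by
    rw [hwu]
    refine mul_ne_zero (fun h0 => hμ2 ?_) (mul_ne_zero ?_ ?_)
    · rw [sub_eq_zero] at h0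
      rw [pow_two]
      nth_rw 1 [← h0]
      exact inv_mul_cancel₀ hμ0
    · rw [swapB hA f u₁, neg_ne_zero]; exact hfu
    · rw [swapB hA e u₂, neg_ne_zero]
      simp [he, he₀f, he₀u]
  refine ⟨_, hv0, centre_of_scaled hA (mul_ne_zero P.two hwu0) fun c => ?_⟩
  have h1 := hfam 1
  rw [one_smul, sr_comm hA h] at h1
  have h2 := P.fam_conj hh hfam c
  rw [hfix, ← hw] at h2
  have hwv : B w (v₁ + v₂) = 0 := by
    rw [hw, ← hfix, P.le hh, h]
  have := long_of_short hA (by rw [swapB hA, h, neg_zero])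
    (show B (c • w) (v₁ + v₂) = 0 by rw [map_smul, LinearMap.smul_apply, hwv, smul_zero]) h1 h2
  rwa [map_smul, LinearMap.smul_apply, smul_eq_mul, mul_left_comm] at this

/-- A short element with both centres off `W₁` gives a transvection. -/
theorem PairCtx.exists_centre {u₁ u₂ v₁ v₂ : V} (hu₁ : u₁ ∈ W₁) (hu₂ : u₂ ∈ W₂)
    (hv₁ : v₁ ∈ W₁) (hv₂ : v₂ ∈ W₂) (hu₂0 : u₂ ≠ 0) (hv₂0 : v₂ ≠ 0)
    (h : B (u₁ + u₂) (v₁ + v₂) = 0) (hfam : ∀ c : F, sr hA (c • (u₁ + u₂)) (v₁ + v₂) ∈ L) :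
    ∃ z, z ≠ 0 ∧ z ∈ centres hA L := by
  by_cases hαv : B v₁ v₂ ≠ 0
  · exact P.of_nonisotropic hu₁ hu₂ hv₁ hv₂ hu₂0 hαv h hfam
  push Not at hαv
  have h' : B (v₁ + v₂) (u₁ + u₂) = 0 := by rw [swapB hA, h, neg_zero]
  by_cases hαu : B u₁ u₂ ≠ 0
  · refine P.of_nonisotropic hv₁ hv₂ hu₁ hu₂ hv₂0 hαu h' fun c => ?_
    convert hfam c using 1
    refine LinearEquiv.ext fun x => ?_
    rw [sr_apply hA (by rw [map_smul, LinearMap.smul_apply, h', smul_zero]),
      sr_apply hA (by rw [map_smul, LinearMap.smul_apply, h, smul_zero])]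
    simp [smul_smul]
    module
  push Not at hαu
  have hv0 : v₁ + v₂ ≠ 0 := fun h0 => by
    have h1 : v₂ ∈ W₁ ⊓ W₂ := ⟨by rw [eq_neg_of_add_eq_zero_right h0]; exact W₁.neg_mem hv₁, hv₂⟩
    rw [P.compl.inf_eq_bot, Submodule.mem_bot] at h1
    exact hv₂0 h1
  have hcross : B u₁ v₂ + B u₂ v₁ = 0 := by
    have := h
    simp only [map_add, LinearMap.add_apply, P.sing₁ u₁ hu₁ v₁ hv₁, P.sing₂ u₂ hu₂ v₂ hv₂,
      zero_add, add_zero] at this
    linear_combination this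
  by_cases hx : B u₁ v₂ ≠ 0
  · -- a unipotent element fixing the second centre
    refine ⟨_, hv0, centre_of_scaled hA
      (mul_ne_zero (mul_ne_zero P.two P.two) (mul_ne_zero hx hx)) fun c => ?_⟩
    have hs := P.short v₁ hv₁ v₂ hv₂ hαv
    set w := sr hA v₁ v₂ (u₁ + u₂) with hw
    have hfix : sr hA v₁ v₂ (v₁ + v₂) = v₁ + v₂ := by
      rw [sr_apply hA hαv, map_add, LinearMap.add_apply, hαv, hA.self_eq_zero, LinearMap.add_apply,
        hA.self_eq_zero, swapB hA v₁ v₂, hαv]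
      simp
    have h1 := hfam 1
    rw [one_smul, sr_comm hA h] at h1
    have h2 := P.fam_conj hs hfam c
    rw [hfix, ← hw] at h2
    have hwv : B w (v₁ + v₂) = 0 := by rw [hw, ← hfix, P.le hs, h]
    have hwu : B w (u₁ + u₂) = 2 * (B u₁ v₂ * B u₁ v₂) := by
      rw [hw, sr_apply hA hαv]
      simp only [map_add, map_smul, LinearMap.add_apply, LinearMap.smul_apply, smul_eq_mul,
        P.sing₁ v₁ hv₁ u₁ hu₁, P.sing₁ u₁ hu₁ u₁ hu₁, P.sing₂ v₂ hv₂ u₂ hu₂,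
        P.sing₂ u₂ hu₂ u₂ hu₂, P.sing₁ u₁ hu₁ v₁ hv₁, P.sing₂ u₂ hu₂ v₂ hv₂, hαu,
        swapB hA u₁ u₂, swapB hA u₂ v₁, swapB hA u₁ v₂]
      have e : B u₂ v₁ = -B u₁ v₂ := by linear_combination hcross
      rw [e]
      ring
    have := long_of_short hA (by rw [swapB hA, h, neg_zero])
      (show B (c • w) (v₁ + v₂) = 0 by rw [map_smul, LinearMap.smul_apply, hwv, smul_zero])
      h1 h2
    rw [map_smul, LinearMap.smul_apply, hwu] at this
    convert this using 2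
    simp [smul_eq_mul]
    ring
  push Not at hx
  have hy : B u₂ v₁ = 0 := by linear_combination hcross - hx
  by_cases hz : u₁ = 0 ∧ v₁ = 0
  · obtain ⟨rfl, rfl⟩ := hz
    simp only [zero_add] at hfam h hv0
    by_cases hd : ∃ t : F, u₂ = t • v₂
    · obtain ⟨t, rfl⟩ := hd
      have ht : t ≠ 0 := fun e => hu₂0 (by rw [e, zero_smul])
      refine ⟨_, hv0, centre_of_scaled hA (mul_ne_zero P.two ht) fun c => ?_⟩
      convert hfam c using 1
      refine LinearEquiv.ext fun x => ?_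
      rw [tv_apply, sr_apply hA (by simp [hA.self_eq_zero])]
      simp [smul_smul]
      module
    push Not at hd
    have hd' : ∀ t : F, v₂ ≠ t • u₂ := fun t e => by
      rcases eq_or_ne t 0 with rfl | ht
      · exact hv₂0 (by rw [e, zero_smul])
      · exact hd t⁻¹ (by rw [e, smul_smul, inv_mul_cancel₀ ht, one_smul])
    obtain ⟨a, ha, hau, hav⟩ := exists_sep P.nondeg hA P.compl P.sing₂ hu₂ hv₂ hd'
    refine ⟨u₂, hu₂0, P.shift hu₂ h ha hau ?_ hfam⟩
    rwa [swapB hA, neg_ne_zero]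
  -- the line is spanned by one vector in each plane
  obtain ⟨w₁, hw₁, hw₁0, hw₁u, hw₁v⟩ : ∃ w ∈ W₁, w ≠ 0 ∧ B w u₂ = 0 ∧ B w v₂ = 0 := by
    by_cases hu0 : u₁ = 0
    · exact ⟨v₁, hv₁, fun e => hz ⟨hu0, e⟩, by rw [swapB hA, hy, neg_zero], hαv⟩
    · exact ⟨u₁, hu₁, hu0, hαu, hx⟩
  -- the annihilator of `w₁` in `W₂` is a line
  have hline : ∀ y ∈ W₂, B w₁ y = 0 → ∃ t : F, y = t • u₂ := by
    intro y hy' hwy
    by_contra hne
    push Not at hne
    have hli : LinearIndependent F ![u₂, y] :=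
      (LinearIndependent.pair_iff' hu₂0).mpr fun t e => hne t e.symm
    have hspan : Submodule.span F (Set.range ![u₂, y]) = W₂ := by
      refine Submodule.eq_of_le_of_finrank_eq (Submodule.span_le.mpr ?_) ?_
      · rintro _ ⟨i, rfl⟩
        fin_cases i
        · exact hu₂
        · exact hy'
      · rw [finrank_span_eq_card hli, P.dim₂, Fintype.card_fin]
    have hle : W₂ ≤ LinearMap.ker (B w₁) := by
      rw [← hspan, Submodule.span_le]
      rintro _ ⟨i, rfl⟩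
      fin_cases i
      · exact hw₁u
      · exact hwy
    refine hw₁0 (pairing P.nondeg hA P.compl.symm P.sing₁ hw₁ fun x hx' => ?_)
    rw [swapB hA, show B w₁ x = 0 from hle hx', neg_zero]
  have hline1 : ∀ y ∈ W₁, B y u₂ = 0 → ∃ t : F, y = t • w₁ := by
    intro y hy' hwy
    by_contra hne
    push Not at hne
    have hli : LinearIndependent F ![w₁, y] :=
      (LinearIndependent.pair_iff' hw₁0).mpr fun t e => hne t e.symm
    have hspan : Submodule.span F (Set.range ![w₁, y]) = W₁ := by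
      refine Submodule.eq_of_le_of_finrank_eq (Submodule.span_le.mpr ?_) ?_
      · rintro _ ⟨i, rfl⟩
        fin_cases i
        · exact hw₁
        · exact hy'
      · rw [finrank_span_eq_card hli, P.dim₁, Fintype.card_fin]
    have hle : W₁ ≤ LinearMap.ker (B.flip u₂) := by
      rw [← hspan, Submodule.span_le]
      rintro _ ⟨i, rfl⟩
      fin_cases i
      · exact hw₁u
      · exact hwy
    exact hu₂0 (pairing P.nondeg hA P.compl P.sing₂ hu₂ fun x hx' => hle hx')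
  obtain ⟨t, ht⟩ := hline v₂ hv₂ hw₁v
  have ht0 : t ≠ 0 := fun e => hv₂0 (by rw [ht, e, zero_smul])
  obtain ⟨s, hs⟩ := hline1 u₁ hu₁ hαu
  obtain ⟨s', hs'⟩ := hline1 v₁ hv₁ (by rw [swapB hA, hy, neg_zero])
  subst hs hs' ht
  -- remove the short part
  have hG : ∀ c : F, tv hA w₁ (c * (2 * (s * s'))) * tv hA u₂ (c * (2 * t)) ∈ L := fun c => by
    have hwb : B ((-(c * (s * t + s'))) • w₁) u₂ = 0 := by simp [hw₁u]
    have := mul_mem (hfam c) (P.short _ (W₁.smul_mem _ hw₁) u₂ hu₂ hwb)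
    convert this using 1
    have hbw : B u₂ w₁ = 0 := by rw [swapB hA, hw₁u, neg_zero]
    refine LinearEquiv.ext fun x => ?_
    rw [LinearEquiv.mul_apply, LinearEquiv.mul_apply, sr_apply hA hwb,
      sr_apply hA (by simp [hw₁u, hbw, hA.self_eq_zero])]
    simp [tv_apply, hw₁u, hbw, hA.self_eq_zero]
    module
  rcases eq_or_ne (s * s') 0 with hss | hss
  · refine ⟨u₂, hu₂0, centre_of_scaled hA (mul_ne_zero P.two ht0) fun c => ?_⟩
    have := hG c
    rwa [hss, mul_zero, mul_zero, tv_zero, one_mul] at this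
  · obtain ⟨f₀, hf₀, hwf₀⟩ : ∃ f ∈ W₂, B w₁ f ≠ 0 := by
      by_contra hc
      push Not at hc
      exact hw₁0 (pairing P.nondeg hA P.compl.symm P.sing₁ hw₁ fun x hx' => by
        rw [swapB hA, hc x hx', neg_zero])
    set f := (B w₁ f₀)⁻¹ • f₀ with hf
    have hwf : B w₁ f = 1 := by simp [hf, hwf₀]
    obtain ⟨μ, hμ0, hμ2⟩ := P.mu
    have hh := P.torus w₁ hw₁ f (W₂.smul_mem _ hf₀) hwf μ hμ0
    have hha : dil hA hwf hμ0 w₁ = μ • w₁ := by
      rw [dil_apply, hwf, hA.self_eq_zero]; module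
    have hhb : dil hA hwf hμ0 u₂ = u₂ := by
      rw [dil_apply, P.sing₂ u₂ hu₂ f (W₂.smul_mem _ hf₀), swapB hA w₁ u₂, hw₁u]; simp
    refine ⟨w₁, hw₁0, centre_of_scaled hA (mul_ne_zero (mul_ne_zero P.two hss)
      (sub_ne_zero.mpr hμ2)) fun c => ?_⟩
    have h1 := mul_mem (mul_mem (mul_mem hh (hG c)) (inv_mem hh)) (hG (-c))
    rw [show dil hA hwf hμ0 * (tv hA w₁ (c * (2 * (s * s'))) * tv hA u₂ (c * (2 * t))) *
        (dil hA hwf hμ0)⁻¹ = (dil hA hwf hμ0 * tv hA w₁ (c * (2 * (s * s'))) *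
          (dil hA hwf hμ0)⁻¹) * (dil hA hwf hμ0 * tv hA u₂ (c * (2 * t)) *
          (dil hA hwf hμ0)⁻¹) by group, tv_conj hA (P.le hh), tv_conj hA (P.le hh), hha, hhb] at h1
    convert h1 using 1
    refine LinearEquiv.ext fun x => ?_
    have hbw : B u₂ w₁ = 0 := by rw [swapB hA, hw₁u, neg_zero]
    simp [LinearEquiv.mul_apply, tv_apply, hw₁u, hbw, hA.self_eq_zero]
    module

/-- A transvection gives one with centre in one of the planes. -/
theorem PairCtx.pure {z : V} (hz0 : z ≠ 0) (hz : z ∈ centres hA L) :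
    (∃ y ∈ W₁, y ≠ 0 ∧ y ∈ centres hA L) ∨ ∃ y ∈ W₂, y ≠ 0 ∧ y ∈ centres hA L := by
  obtain ⟨z₁, hz₁, z₂, hz₂, rfl⟩ :=
    Submodule.mem_sup.mp (P.compl.sup_eq_top ▸ Submodule.mem_top : z ∈ W₁ ⊔ W₂)
  by_cases h1 : z₁ = 0
  · subst h1; rw [zero_add] at hz hz0; exact Or.inr ⟨z₂, hz₂, hz0, hz⟩
  by_cases h2 : z₂ = 0
  · subst h2; rw [add_zero] at hz hz0; exact Or.inl ⟨z₁, hz₁, hz0, hz⟩
  refine Or.inl ⟨z₁, hz₁, h1, ?_⟩
  obtain ⟨μ, hμ0, hμ2⟩ := P.mu
  by_cases hα : B z₁ z₂ ≠ 0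
  · set f := (B z₁ z₂)⁻¹ • z₂ with hf
    have hef : B z₁ f = 1 := by simp [hf, hα]
    have hh := P.torus z₁ hz₁ f (W₂.smul_mem _ hz₂) hef μ hμ0
    have hz' : μ • z₁ + μ⁻¹ • z₂ ∈ centres hA L := by
      have := centres_invariant hA P.le hh hz
      convert this using 1
      rw [dil_apply, hf]
      simp only [map_add, map_smul, LinearMap.add_apply, hA.self_eq_zero, smul_eq_mul,
        swapB hA z₁ z₂, smul_smul]
      match_scalars <;> field_simp <;> ring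
    have hne : B (z₁ + z₂) (μ • z₁ + μ⁻¹ • z₂) ≠ 0 := by
      simp only [map_add, map_smul, LinearMap.add_apply, hA.self_eq_zero, smul_eq_mul,
        swapB hA z₁ z₂]
      intro h0
      apply hα
      have : (μ ^ 2 - 1) * B z₁ z₂ = 0 := by
        field_simp at h0
        linear_combination -h0
      exact (mul_eq_zero.mp this).resolve_left (sub_ne_zero.mpr hμ2)
    have h := centres_join hA P.le hz hz' hne (μ * (μ ^ 2 - 1))⁻¹ (-(μ ^ 2 - 1)⁻¹)
    have h3 := centre_smul hA h (-μ)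
    convert h3 using 1
    have := sub_ne_zero.mpr hμ2
    match_scalars <;> field_simp <;> ring
  push Not at hα
  obtain ⟨f₀, hf₀, hzf₀⟩ : ∃ f ∈ W₂, B z₁ f ≠ 0 := by
    by_contra hc
    push Not at hc
    exact h1 (pairing P.nondeg hA P.compl.symm P.sing₁ hz₁ fun x hx' => by
      rw [swapB hA, hc x hx', neg_zero])
  set f := (B z₁ f₀)⁻¹ • f₀ with hf
  have hfW : f ∈ W₂ := W₂.smul_mem _ hf₀
  have hef : B z₁ f = 1 := by simp [hf, hzf₀]
  have hact : ∀ (k : F) (hk : k ≠ 0), dil hA hef hk z₁ = k • z₁ ∧ dil hA hef hk z₂ = z₂ := by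
    intro k hk
    constructor
    · rw [dil_apply, hef, hA.self_eq_zero]; module
    · rw [dil_apply, P.sing₂ z₂ hz₂ f hfW, swapB hA z₁ z₂, hα]; simp
  have hneg : -z₁ + z₂ ∈ centres hA L := by
    have hk : (-1 : F) ≠ 0 := neg_ne_zero.mpr one_ne_zero
    have := centres_invariant hA P.le (P.torus z₁ hz₁ f hfW hef (-1) hk) hz
    rwa [map_add, (hact _ hk).1, (hact _ hk).2, neg_smul, one_smul] at this
  have hbz : B z₂ z₁ = 0 := by rw [swapB hA, hα, neg_zero]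
  have hG : ∀ c : F, tv hA z₁ (2 * c) * tv hA z₂ (2 * c) ∈ L := fun c => by
    convert mul_mem (hz c) (hneg c) using 1
    refine LinearEquiv.ext fun x => ?_
    simp [LinearEquiv.mul_apply, tv_apply, hα, hbz, hA.self_eq_zero]
    module
  refine centre_of_scaled hA (mul_ne_zero P.two (sub_ne_zero.mpr hμ2)) fun c => ?_
  have hh := P.torus z₁ hz₁ f hfW hef μ hμ0
  have h3 := mul_mem (mul_mem (mul_mem hh (hG c)) (inv_mem hh)) (hG (-c))
  rw [show dil hA hef hμ0 * (tv hA z₁ (2 * c) * tv hA z₂ (2 * c)) * (dil hA hef hμ0)⁻¹ =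
      (dil hA hef hμ0 * tv hA z₁ (2 * c) * (dil hA hef hμ0)⁻¹) *
      (dil hA hef hμ0 * tv hA z₂ (2 * c) * (dil hA hef hμ0)⁻¹) by group,
    tv_conj hA (P.le hh), tv_conj hA (P.le hh), (hact μ hμ0).1, (hact μ hμ0).2] at h3
  convert h3 using 1
  refine LinearEquiv.ext fun x => ?_
  simp [LinearEquiv.mul_apply, tv_apply, hα, hbz, hA.self_eq_zero]
  module

end Cfsg.Lib.Linear.SpFour
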