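import Cfsg.Agent.Lib.Linear.SympOverfield
import Cfsg.Agent.Lib.Linear.SpGeo.Pair
import Cfsg.Agent.Lib.Linear.SpFour.Common

/-!
# A plane element inside a group normalised by transvections
-/

set_option autoImplicit false
set_option linter.unusedSectionVars false
set_option linter.unusedSimpArgs false

namespace Cfsg.Lib.Linear.SpFour

open Module Cfsg.Lib.Linear.Symp
open scoped commutatorElement

variable {F V : Type*} [Field F] [AddCommGroup V] [Module F V] [FiniteDimensional F V]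
  {B : LinearMap.BilinForm F V} (hA : B.IsAlt)

include hA

theorem tv_inv' (v : V) (c : F) : (tv hA v c)⁻¹ = tv hA v (-c) :=
  inv_eq_of_mul_eq_one_right (by rw [tv_mul_tv, neg_add_cancel, tv_zero])

theorem tv_pow (v : V) (c : F) (i : ℕ) : tv hA v c ^ i = tv hA v ((i : F) * c) := by
  induction i with
  | zero => simp [tv_zero]
  | succ i ih => rw [pow_succ, ih, tv_mul_tv]; congr 1; push_cast; ring

/-- Transvections with two non-orthogonal centres whose product with a commuting transvection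
lies in the group give a transvection in the group. -/
theorem plane_centre [Finite F] (h2 : (2 : F) ≠ 0) {μ : F} (hμ0 : μ ≠ 0) (hμ : μ ^ 2 ≠ 1)
    {H : Subgroup (V ≃ₗ[F] V)} (hH : H ≤ iso B) {z z' w : V} (hk : B z z' ≠ 0)
    (hwz : B w z = 0) (hwz' : B w z' = 0)
    (hD : ∀ c : F, ∃ d : F, tv hA z c * tv hA w d ∈ H)
    (hX : ∀ c : F, tv hA z c * tv hA z' (-c) ∈ H) : z ∈ centres hA H := by
  set k := B z z' with hkdef
  have hk' : B z' z = -k := swapB hA z z'
  let S : Subgroup (V ≃ₗ[F] V) :=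
    { carrier := {h | h ∈ H ∧ h w = w}
      mul_mem' := fun {a b} ha hb => ⟨mul_mem ha.1 hb.1, by
        rw [LinearEquiv.mul_apply, hb.2, ha.2]⟩
      one_mem' := ⟨one_mem H, rfl⟩
      inv_mem' := fun {a} ha => ⟨inv_mem ha.1, by
        conv_lhs => rw [← ha.2]
        rw [← LinearEquiv.mul_apply, inv_mul_cancel]; rfl⟩ }
  have hfix : ∀ c : F, tv hA z c w = w ∧ tv hA z' c w = w := fun c => by simp [hwz, hwz']
  have hnor : ∀ h ∈ S, ∀ i : F, tv hA z i * h * (tv hA z i)⁻¹ ∈ S := by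
    intro h hh i
    obtain ⟨d, hd⟩ := hD i
    have hT : tv hA w d * h * (tv hA w d)⁻¹ = h := by
      have e := tv_conj hA (hH hh.1) w d
      rw [hh.2] at e
      rw [mul_inv_eq_iff_eq_mul] at e
      rw [mul_inv_eq_iff_eq_mul]
      exact e.symm
    refine ⟨?_, ?_⟩
    · have := mul_mem (mul_mem hd hh.1) (inv_mem hd)
      rwa [mul_inv_rev, show tv hA z i * tv hA w d * h * ((tv hA w d)⁻¹ * (tv hA z i)⁻¹) =
        tv hA z i * (tv hA w d * h * (tv hA w d)⁻¹) * (tv hA z i)⁻¹ by group, hT] at this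
    · rw [tv_inv', LinearEquiv.mul_apply, LinearEquiv.mul_apply, (hfix _).1, hh.2, (hfix _).1]
  have hXS : ∀ c : F, tv hA z c * tv hA z' (-c) ∈ S := fun c =>
    ⟨hX c, by rw [LinearEquiv.mul_apply, (hfix _).2, (hfix _).1]⟩
  have hcomm : ∀ i j : F, ⁅tv hA z i, tv hA z' j⁆ ∈ S := by
    intro i j
    set g := (tv hA z j * tv hA z' (-j))⁻¹ with hg
    have hgS : g ∈ S := inv_mem (hXS j)
    have e : tv hA z' j = g * tv hA z j := by
      rw [hg, ← tv_inv' hA z' j]; group
    have hc : Commute (tv hA z i) (tv hA z j) := by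
      show _ * _ = _ * _
      rw [tv_mul_tv, tv_mul_tv, add_comm]
    have e2 : ⁅tv hA z i, g * tv hA z j⁆ = tv hA z i * g * (tv hA z i)⁻¹ * g⁻¹ := by
      rw [commutatorElement_def, mul_inv_rev,
        show tv hA z i * (g * tv hA z j) * (tv hA z i)⁻¹ * ((tv hA z j)⁻¹ * g⁻¹) =
          tv hA z i * g * (tv hA z j * (tv hA z i)⁻¹ * (tv hA z j)⁻¹) * g⁻¹ by group,
        ← hc.inv_left.eq]
      group
    rw [e, e2]
    exact mul_mem (hnor g hgS i) (inv_mem hgS)
  obtain ⟨p, hpF⟩ := CharP.exists F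
  have hp : Odd p := by
    rcases (CharP.char_is_prime F p).eq_two_or_odd' with rfl | h
    · exact absurd (CharTwo.two_eq_zero (R := F)) h2
    · exact h
  -- the elements interchanging the two lines
  have hw : ∀ u : F, u ≠ 0 → ∃ g ∈ S, g z = (u * k) • z' ∧ g z' = (-(u * k)⁻¹) • z := by
    intro u hu
    set A := tv hA z (u * k * k)⁻¹ with hAdef
    set U := tv hA z' u with hUdef
    have hz : (U * A * U) z = (u * k) • z' := by
      simp [hAdef, hUdef, LinearEquiv.mul_apply, hA.self_eq_zero, hk', ← hkdef]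
      match_scalars <;> field_simp <;> ring
    have hz' : (U * A * U) z' = (-(u * k)⁻¹) • z := by
      simp [hAdef, hUdef, LinearEquiv.mul_apply, hA.self_eq_zero, hk', ← hkdef]
      match_scalars <;> field_simp <;> ring
    have hr : ∀ v, ((U * A * U) * (U * A * U)) v =
        v - (2 * B v z' / k) • z + (2 * B v z / k) • z' := by
      intro v
      simp [hAdef, hUdef, LinearEquiv.mul_apply, hA.self_eq_zero, hk', ← hkdef]
      match_scalars <;> field_simp <;> ring
    have h4 : (U * A * U) ^ 4 = 1 := by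
      rw [show (U * A * U) ^ 4 = ((U * A * U) * (U * A * U)) * ((U * A * U) * (U * A * U)) by
        simp [pow_succ, mul_assoc]]
      refine LinearEquiv.ext fun v => ?_
      show ((U * A * U) * (U * A * U)) (((U * A * U) * (U * A * U)) v) = v
      rw [hr v, hr]
      simp [hA.self_eq_zero, hk', ← hkdef]
      match_scalars <;> field_simp <;> ring
    refine ⟨U * A * U, SympQ2.mem_of_comms S hp ?_ ?_ (fun i j => ?_) h4, hz, hz'⟩
    · rw [hAdef, tv_pow, CharP.cast_eq_zero, zero_mul, tv_zero]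
    · rw [hUdef, tv_pow, CharP.cast_eq_zero, zero_mul, tv_zero]
    · rw [hAdef, hUdef, tv_pow, tv_pow]; exact hcomm _ _
  obtain ⟨g₁, hg₁, -, e₁⟩ := hw 1 one_ne_zero
  obtain ⟨g₂, hg₂, e₂, -⟩ := hw μ hμ0
  have hgz : (g₁ * g₂) z = (-μ) • z := by
    rw [LinearEquiv.mul_apply, e₂, map_smul, e₁, smul_smul]
    congr 1
    field_simp
  have hgS : g₁ * g₂ ∈ S := mul_mem hg₁ hg₂
  have h1 : μ ^ 2 - 1 ≠ 0 := sub_ne_zero.mpr hμ
  refine centre_of_scaled hA h1 fun c => ?_
  have := (mul_mem hgS (hnor _ (inv_mem hgS) c)).1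
  rwa [show g₁ * g₂ * (tv hA z c * (g₁ * g₂)⁻¹ * (tv hA z c)⁻¹) =
    (g₁ * g₂) * tv hA z c * (g₁ * g₂)⁻¹ * (tv hA z c)⁻¹ by group,
    tv_conj hA (hH hgS.1), hgz, tv_smul, tv_inv', tv_mul_tv,
    show -c + (-μ) ^ 2 * c = c * (μ ^ 2 - 1) by ring] at this

end Cfsg.Lib.Linear.SpFour
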