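import Cfsg.Agent.Lib.Linear.SpFour.QuadCore

/-!
# The unitary group of dimension two inside the symplectic group of dimension four

`θ` generates the quadratic field and is skew for `B`.  A group of isometries containing every
isometry commuting with `θ` either preserves the field or is the whole isometry group.
-/

set_option autoImplicit false
set_option linter.unusedSectionVars false
set_option linter.unusedSimpArgs false

namespace Cfsg.Lib.Linear.SpFour.Quad

open Module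
open Cfsg.Lib.Linear
open scoped Matrix
open Cfsg.Lib.Linear.OrthQ2 (kLine mem_kLine)
open Cfsg.Lib.Linear.SympQ2 (sQ uT)
open Cfsg.Lib.Linear.SpGeo.Pair (sr sr_apply sr_conj long_of_short)

variable {ι : Type} [Fintype ι] [DecidableEq ι] {F : Type*} [Field F]
  {B : LinearMap.BilinForm F (ι → F)} {θ : (ι → F) →ₗ[F] (ι → F)} {N : F}

local notation "𝕍" => (ι → F)

/-- The standing hypotheses in dimension four. -/
structure Op4 (B : LinearMap.BilinForm F (ι → F)) (θ : (ι → F) →ₗ[F] (ι → F)) (N : F) : Prop where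
  nondeg : B.Nondegenerate
  alt : B.IsAlt
  card : Fintype.card ι = 4
  two : (2 : F) ≠ 0
  sq : ∀ v, θ (θ v) = -(N • v)
  skew : ∀ u v, B (θ u) v = -B u (θ v)
  neN : N ≠ 0
  free : ∀ v, v ≠ 0 → ∀ c : F, θ v ≠ c • v

/-- A hyperbolic pair for the hermitian form. -/
structure Hyp4 (B : LinearMap.BilinForm F (ι → F)) (θ : (ι → F) →ₗ[F] (ι → F)) (e f : ι → F) :
    Prop where
  singE : sQ B θ e = 0
  singF : sQ B θ f = 0
  pair : B e f = 1
  pairOp : B e (θ f) = 0

variable (D : Op4 B θ N)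

include D

theorem Op4.swap (u v : 𝕍) : B v u = -B u v := (LinearMap.IsAlt.neg D.alt u v).symm

theorem Op4.self (u : 𝕍) : B u u = 0 := D.alt.self_eq_zero u

theorem Op4.op_op (u v : 𝕍) : B (θ u) (θ v) = N * B u v := by rw [D.skew, D.sq]; simp

theorem Op4.op_right (u v : 𝕍) : B u (θ (θ v)) = -(N * B u v) := by rw [D.sq]; simp

theorem Op4.hs (u v : 𝕍) : B v (θ u) = B u (θ v) := by rw [D.swap, D.skew, neg_neg]

theorem Op4.Q_add (v w : 𝕍) : sQ B θ (v + w) = sQ B θ v + sQ B θ w + 2 * B v (θ w) := by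
  simp only [sQ, map_add, LinearMap.add_apply]
  linear_combination D.hs v w

theorem Op4.Q_smul (c : F) (v : 𝕍) : sQ B θ (c • v) = c * c * sQ B θ v := by
  simp only [sQ, map_smul, LinearMap.smul_apply, smul_eq_mul]
  ring

theorem Op4.Q_op (v : 𝕍) : sQ B θ (θ v) = N * sQ B θ v := by
  simp only [sQ]; rw [D.op_op]

theorem Op4.Q_kline (v : 𝕍) (a b : F) :
    sQ B θ (a • v + b • θ v) = (a * a + N * (b * b)) * sQ B θ v := by
  rw [D.Q_add, D.Q_smul, D.Q_smul, D.Q_op]
  simp [D.sq, D.self]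
  ring

theorem Op4.nontriv : ∃ v : 𝕍, v ≠ 0 := by
  obtain ⟨i⟩ : Nonempty ι := Fintype.card_pos_iff.mp (by have := D.card; omega)
  exact ⟨Pi.single i 1, by simp⟩

/-- The norm form of the quadratic field is anisotropic. -/
theorem Op4.norm_ne {a b : F} (h : a ≠ 0 ∨ b ≠ 0) : a * a + N * (b * b) ≠ 0 := by
  obtain ⟨v, hv⟩ := D.nontriv
  intro h0
  rcases eq_or_ne b 0 with rfl | hb
  · simp at h h0
    exact h h0
  set ρ := a / b with hρ
  have hρρ : ρ * ρ = -N := by
    rw [hρ, div_mul_div_comm, div_eq_iff (mul_ne_zero hb hb)]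
    linear_combination h0
  by_cases hw : θ v - ρ • v = 0
  · exact D.free v hv ρ (sub_eq_zero.mp hw)
  · refine D.free _ hw (-ρ) ?_
    rw [map_sub, map_smul, D.sq, smul_sub, smul_smul, neg_mul, hρρ, neg_neg, neg_smul]
    abel

theorem Op4.norm_surj [Finite F] (t : F) : ∃ a b : F, a * a + N * (b * b) = t := by
  classical
  letI := Fintype.ofFinite F
  have hodd : Fintype.card F % 2 = 1 := by
    refine Nat.mod_two_ne_zero.mp fun h => D.two ?_
    haveI : CharP F 2 := by
      rw [← FiniteField.even_card_iff_char_two] at h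
      exact h ▸ ringChar.charP F
    exact CharTwo.two_eq_zero
  obtain ⟨a, b, hab⟩ := FiniteField.exists_root_sum_quadratic
    (f := Polynomial.X ^ 2 - Polynomial.C t) (g := Polynomial.C N * Polynomial.X ^ 2)
    (Polynomial.degree_X_pow_sub_C (by norm_num) t) (Polynomial.degree_C_mul_X_pow 2 D.neN) hodd
  simp at hab
  exact ⟨a, b, by linear_combination hab⟩

theorem Op4.li_two {x : 𝕍} (hx : x ≠ 0) : LinearIndependent F ![x, θ x] :=
  (LinearIndependent.pair_iff' hx).mpr fun c h => D.free x hx c h.symm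

theorem Op4.span_four {x y : 𝕍} (hx : x ≠ 0) (hy : y ∉ kLine θ x) (v : 𝕍) :
    ∃ a b c d : F, v = a • x + b • θ x + c • y + d • θ y := by
  have li : LinearIndependent F ![x, θ x, y, θ y] := by
    rw [Fintype.linearIndependent_iff]
    intro g hg
    rw [Fin.sum_univ_four] at hg
    simp only [Matrix.cons_val] at hg
    have hcd : g 2 = 0 ∧ g 3 = 0 := by
      by_contra hc
      have hd := D.norm_ne (a := g 2) (b := g 3) (not_and_or.mp hc)
      have e := congrArg θ hg
      simp only [map_add, map_smul, D.sq, map_zero] at e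
      apply hy
      refine mem_kLine.mpr ⟨-((g 2 * g 2 + N * (g 3 * g 3))⁻¹ * (g 2 * g 0 + N * (g 3 * g 1))),
        -((g 2 * g 2 + N * (g 3 * g 3))⁻¹ * (g 2 * g 1 - g 3 * g 0)), ?_⟩
      have key : (g 2 * g 2 + N * (g 3 * g 3)) • y =
          -((g 2 * g 0 + N * (g 3 * g 1)) • x + (g 2 * g 1 - g 3 * g 0) • θ x) := by
        linear_combination (norm := module) g 2 • hg - g 3 • e
      refine smul_right_injective 𝕍 hd ?_
      dsimp only
      rw [key]
      match_scalars <;>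
        rw [mul_one, mul_neg, ← mul_assoc, mul_inv_cancel₀ hd, one_mul, mul_one]
    rw [hcd.1, hcd.2, zero_smul, zero_smul, add_zero, add_zero] at hg
    have h01 := LinearIndependent.pair_iff.mp (D.li_two hx) (g 0) (g 1) hg
    intro i
    fin_cases i
    exacts [h01.1, h01.2, hcd.1, hcd.2]
  have htop := li.span_eq_top_of_card_eq_finrank
    (by rw [Fintype.card_fin, finrank_fintype_fun_eq_card, D.card])
  obtain ⟨g, hg⟩ := (Submodule.mem_span_range_iff_exists_fun F).mp (htop ▸ Submodule.mem_top : v ∈ _)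
  refine ⟨g 0, g 1, g 2, g 3, ?_⟩
  rw [← hg, Fin.sum_univ_four]
  simp only [Matrix.cons_val]

/-- The perpendicular of two independent points over the field is zero. -/
theorem Op4.eq_zero_of_perp {x y v : 𝕍} (hx : x ≠ 0) (hy : y ∉ kLine θ x) (h1 : B v x = 0)
    (h2 : B v (θ x) = 0) (h3 : B v y = 0) (h4 : B v (θ y) = 0) : v = 0 := by
  refine D.nondeg.1 v fun u => ?_
  obtain ⟨a, b, c, d, rfl⟩ := D.span_four hx hy u
  simp [h1, h2, h3, h4]

omit D in
theorem Hyp4.ne_zero {e f : 𝕍} (h : Hyp4 B θ e f) : e ≠ 0 := fun h0 => by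
  simpa [h0] using h.pair

theorem Hyp4.notMem {e f : 𝕍} (h : Hyp4 B θ e f) : f ∉ kLine θ e := fun hm => by
  obtain ⟨a, b, e'⟩ := mem_kLine.mp hm
  have he1 : B e (θ e) = 0 := h.singE
  have := congrArg (B e) e'
  simp [h.pair, he1, D.self] at this

/-- The coordinates along a hyperbolic pair. -/
theorem Op4.decomp {e f : 𝕍} (h : Hyp4 B θ e f) (v : 𝕍) :
    ∃ a b c d : F, v = a • e + b • θ e + c • f + d • θ f :=
  D.span_four h.ne_zero (Hyp4.notMem D h) v

theorem Op4.exists_rep {x : 𝕍} (hx : x ≠ 0) (p q : F) : ∃ w, B w x = p ∧ B w (θ x) = q := by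
  classical
  let b := Basis.span (D.li_two hx)
  obtain ⟨φ, hφ⟩ := LinearMap.exists_extend (b.constr F ![p, q])
  refine ⟨(B.toDual D.nondeg).symm φ, ?_, ?_⟩ <;> rw [LinearMap.BilinForm.apply_toDual_symm_apply]
  · have h := LinearMap.congr_fun hφ (b 0)
    rw [Basis.constr_basis] at h
    simpa [b, Basis.span_apply] using h
  · have h := LinearMap.congr_fun hφ (b 1)
    rw [Basis.constr_basis] at h
    simpa [b, Basis.span_apply] using h

/-- A partner of an isotropic vector. -/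
theorem Op4.partner {u : 𝕍} (hu : sQ B θ u = 0) (hu0 : u ≠ 0) : ∃ z, Hyp4 B θ u z := by
  obtain ⟨w, w0, w1⟩ := D.exists_rep hu0 (-1) 0
  have hu' : B u (θ u) = 0 := hu
  have h2 := D.two
  have hN := D.neN
  refine ⟨w + (-(sQ B θ w) / (2 * N)) • θ u, hu, ?_, ?_, ?_⟩
  · rw [D.Q_add, D.Q_smul, D.Q_op, hu, map_smul, map_smul, D.op_right, w0, smul_eq_mul]
    field_simp
    ring
  · rw [map_add, map_smul, hu', D.swap w u, w0]
    simp
  · rw [map_add, map_smul, map_add, map_smul, D.op_right, D.self, D.hs, w1]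
    simp

/-- A hyperbolic pair. -/
theorem Op4.exists_hyp [Finite F] : ∃ e f : 𝕍, Hyp4 B θ e f := by
  obtain ⟨v, hv⟩ := D.nontriv
  suffices h : ∃ e, e ≠ 0 ∧ sQ B θ e = 0 by
    obtain ⟨e, he, hQ⟩ := h
    exact ⟨e, D.partner hQ he⟩
  by_cases hQv : sQ B θ v = 0
  · exact ⟨v, hv, hQv⟩
  obtain ⟨n, hn, h1, h2⟩ : ∃ n : 𝕍, n ≠ 0 ∧ B v n = 0 ∧ B v (θ n) = 0 := by
    let Φ : 𝕍 →ₗ[F] (Fin 2 → F) := LinearMap.pi ![B v, (B v).comp θ]
    have h1 := Φ.finrank_range_add_finrank_ker
    have h2 := Submodule.finrank_le (LinearMap.range Φ)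
    rw [finrank_fin_fun] at h2
    rw [finrank_fintype_fun_eq_card, D.card] at h1
    obtain ⟨n, hn, hn0⟩ := Submodule.exists_mem_ne_zero_of_ne_bot
      (p := LinearMap.ker Φ) fun h => by rw [h, finrank_bot] at h1; omega
    have h := LinearMap.mem_ker.mp hn
    exact ⟨n, hn0, congrFun h 0, congrFun h 1⟩
  by_cases hQn : sQ B θ n = 0
  · exact ⟨n, hn, hQn⟩
  obtain ⟨s, t, hst⟩ := D.norm_surj (-(sQ B θ v) / sQ B θ n)
  refine ⟨v + (s • n + t • θ n), fun h0 => ?_, ?_⟩
  · have := congrArg (fun z => B z (θ v)) h0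
    simp [D.skew, D.hs v n, h1, h2, D.sq, D.swap v n] at this
    exact hQv this
  · rw [D.Q_add, D.Q_kline, hst, div_mul_cancel₀ _ hQn, map_add, map_smul, map_smul, map_add,
      map_smul, map_smul, D.op_right, h1, h2]
    simp only [smul_eq_mul]
    ring

theorem Op4.uT_apply {u : 𝕍} (hu : sQ B θ u = 0) (c : F) (z : 𝕍) :
    uT D.alt θ N u c z = z + (c * N * B z u) • u + (c * B z (θ u)) • θ u := by
  have h : B (θ u) u = 0 := by rw [D.swap]; exact neg_eq_zero.mpr hu
  simp only [uT, LinearEquiv.mul_apply, Symp.tv_apply, map_add, map_smul, LinearMap.add_apply,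
    LinearMap.smul_apply, h, smul_zero, mul_zero, zero_smul, add_zero]

theorem Op4.uT_comm {u : 𝕍} (hu : sQ B θ u = 0) (c : F) (z : 𝕍) :
    θ (uT D.alt θ N u c z) = uT D.alt θ N u c (θ z) := by
  rw [D.uT_apply hu, D.uT_apply hu, map_add, map_add, map_smul, map_smul, D.sq, D.skew, D.op_op]
  module

omit D in
/-- Multiplication by `α + βθ` on the line of `z`. -/
def rhoMap (B : LinearMap.BilinForm F (ι → F)) (θ : 𝕍 →ₗ[F] 𝕍) (N : F) (z : 𝕍) (α β : F) :
    𝕍 →ₗ[F] 𝕍 :=
  LinearMap.id + ((B z (θ z))⁻¹ • ((α - 1) • B.flip (θ z) + (β * N) • B.flip z)).smulRight z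
    + ((B z (θ z))⁻¹ • (β • B.flip (θ z) - (α - 1) • B.flip z)).smulRight (θ z)

omit D in
theorem rhoMap_apply (z : 𝕍) (α β : F) (v : 𝕍) : rhoMap B θ N z α β v =
    v + ((B z (θ z))⁻¹ * ((α - 1) * B v (θ z) + β * N * B v z)) • z +
      ((B z (θ z))⁻¹ * (β * B v (θ z) - (α - 1) * B v z)) • θ z := rfl

theorem Op4.rho_cancel {z : 𝕍} (hz : B z (θ z) ≠ 0) {α β : F} (h : α * α + N * (β * β) = 1)
    (v : 𝕍) : rhoMap B θ N z α β (rhoMap B θ N z α (-β) v) = v := by
  have e : B (θ z) z = -B z (θ z) := D.swap _ _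
  simp only [rhoMap_apply, map_add, map_smul, LinearMap.add_apply, LinearMap.smul_apply,
    smul_eq_mul, D.self, e]
  match_scalars
  · rfl
  · field_simp
    linear_combination (B z (θ z) * B v (θ z)) * h
  · field_simp
    linear_combination -(B z (θ z) * B v z) * h

/-- The same map as an isometry. -/
theorem Op4.exists_rho {z : 𝕍} (hz : B z (θ z) ≠ 0) {α β : F} (h : α * α + N * (β * β) = 1) :
    ∃ g : 𝕍 ≃ₗ[F] 𝕍, g ∈ Symp.iso B ∧ (∀ v, θ (g v) = g (θ v)) ∧ g z = α • z + β • θ z ∧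
      ∀ v, B v z = 0 → B v (θ z) = 0 → g v = v := by
  let g : 𝕍 ≃ₗ[F] 𝕍 := LinearEquiv.ofLinear (rhoMap B θ N z α β) (rhoMap B θ N z α (-β))
    (LinearMap.ext fun v => D.rho_cancel hz h v)
    (LinearMap.ext fun v => by
      have := D.rho_cancel hz (α := α) (β := -β) (by linear_combination h) v
      rwa [neg_neg] at this)
  have hg : ∀ v, g v = rhoMap B θ N z α β v := fun v => rfl
  have e : B (θ z) z = -B z (θ z) := D.swap _ _
  refine ⟨g, fun u v => ?_, fun v => ?_, ?_, fun v h1 h2 => ?_⟩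
  · simp only [hg, rhoMap_apply, map_add, map_smul, LinearMap.add_apply, LinearMap.smul_apply,
      smul_eq_mul, D.self, e, D.swap v z, D.swap v (θ z)]
    field_simp
    linear_combination (B z (θ z) * (B u z * B v (θ z) - B u (θ z) * B v z)) * h
  · simp only [hg, rhoMap_apply, map_add, map_smul, D.sq, D.skew, D.op_op, map_neg, smul_eq_mul]
    match_scalars <;> field_simp <;> ring
  · simp only [hg, rhoMap_apply, D.self, smul_eq_mul, mul_zero, add_zero, sub_zero]
    match_scalars <;> field_simp <;> ring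
  · simp [hg, rhoMap_apply, h1, h2]

omit D in
/-- Multiplication by `α + βθ` and its inverse adjoint along a hyperbolic pair. -/
def scaleMap (B : LinearMap.BilinForm F (ι → F)) (θ : 𝕍 →ₗ[F] 𝕍) (N : F) (e f : 𝕍) (α β n : F) :
    𝕍 →ₗ[F] 𝕍 :=
  (α • B.flip f - β • B.flip (θ f)).smulRight e
    + ((α / N) • B.flip (θ f) + β • B.flip f).smulRight (θ e)
    + (n⁻¹ • (β • B.flip (θ e) - α • B.flip e)).smulRight f
    + (n⁻¹ • (-(α / N) • B.flip (θ e) - β • B.flip e)).smulRight (θ f)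

omit D in
theorem scaleMap_apply (e f : 𝕍) (α β n : F) (v : 𝕍) : scaleMap B θ N e f α β n v =
    (α * B v f - β * B v (θ f)) • e + (α / N * B v (θ f) + β * B v f) • θ e
      + (n⁻¹ * (β * B v (θ e) - α * B v e)) • f
      + (n⁻¹ * (-(α / N) * B v (θ e) - β * B v e)) • θ f := rfl

theorem Op4.scale_apply {e f : 𝕍} (h : Hyp4 B θ e f) (α β n a b c d : F) :
    scaleMap B θ N e f α β n (a • e + b • θ e + c • f + d • θ f) =
      (α * a - N * β * b) • e + (α * b + β * a) • θ e
        + (n⁻¹ * (α * c - N * β * d)) • f + (n⁻¹ * (α * d + β * c)) • θ f := by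
  have hN := D.neN
  have h1 : B e (θ e) = 0 := h.singE
  have h2 : B f (θ f) = 0 := h.singF
  have h3 : B f (θ e) = 0 := by rw [D.hs]; exact h.pairOp
  simp only [scaleMap_apply, map_add, map_smul, LinearMap.add_apply, LinearMap.smul_apply,
    smul_eq_mul, D.op_op, D.skew, D.self, D.swap e f, h.pair, h.pairOp, h1, h2, h3]
  match_scalars <;> field_simp <;> ring

set_option maxHeartbeats 1000000 in
/-- The torus of a hyperbolic pair over the field. -/
theorem Op4.exists_scale {e f : 𝕍} (h : Hyp4 B θ e f) {α β : F} (hab : α ≠ 0 ∨ β ≠ 0) :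
    ∃ g : 𝕍 ≃ₗ[F] 𝕍, g ∈ Symp.iso B ∧ (∀ v, θ (g v) = g (θ v)) ∧ g e = α • e + β • θ e ∧
      g f = (α * α + N * (β * β))⁻¹ • (α • f + β • θ f) := by
  have hn := D.norm_ne hab
  set n := α * α + N * (β * β) with hndef
  have hN := D.neN
  have cancel : ∀ α β n α' β' n' : F, α * α' - N * β * β' = 1 → α * β' + β * α' = 0 →
      n * n' = 1 → ∀ v, scaleMap B θ N e f α β n (scaleMap B θ N e f α' β' n' v) = v := by
    intro α β n α' β' n' h1 h2 h3 v
    obtain ⟨a, b, c, d, rfl⟩ := D.decomp h v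
    have h4 : n⁻¹ * n'⁻¹ = 1 := by rw [← mul_inv, h3, inv_one]
    rw [D.scale_apply h, D.scale_apply h]
    match_scalars
    · linear_combination a * h1 - N * b * h2
    · linear_combination b * h1 + a * h2
    · linear_combination (n⁻¹ * n'⁻¹ * c) * h1 - (n⁻¹ * n'⁻¹ * N * d) * h2 + c * h4
    · linear_combination (n⁻¹ * n'⁻¹ * d) * h1 + (n⁻¹ * n'⁻¹ * c) * h2 + d * h4
  let g : 𝕍 ≃ₗ[F] 𝕍 := LinearEquiv.ofLinear (scaleMap B θ N e f α β n)
    (scaleMap B θ N e f (α / n) (-(β / n)) n⁻¹)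
    (LinearMap.ext fun v => cancel _ _ _ _ _ _ (by field_simp; linear_combination -hndef)
      (by ring) (mul_inv_cancel₀ hn) v)
    (LinearMap.ext fun v => cancel _ _ _ _ _ _ (by field_simp; linear_combination -hndef)
      (by ring) (inv_mul_cancel₀ hn) v)
  have hg : ∀ a b c d : F, g (a • e + b • θ e + c • f + d • θ f) = _ :=
    fun a b c d => D.scale_apply h α β n a b c d
  have h1 : B e (θ e) = 0 := h.singE
  have h2 : B f (θ f) = 0 := h.singF
  have h3 : B f (θ e) = 0 := by rw [D.hs]; exact h.pairOp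
  refine ⟨g, fun u v => ?_, fun v => ?_, ?_, ?_⟩
  · obtain ⟨a, b, c, d, rfl⟩ := D.decomp h u
    obtain ⟨a', b', c', d', rfl⟩ := D.decomp h v
    rw [hg, hg]
    simp only [map_add, map_smul, LinearMap.add_apply, LinearMap.smul_apply, smul_eq_mul, D.op_op,
      D.skew, D.self, D.swap e f, h.pair, h.pairOp, h1, h2, h3]
    field_simp
    rw [hndef]
    ring
  · obtain ⟨a, b, c, d, rfl⟩ := D.decomp h v
    rw [hg, show θ (a • e + b • θ e + c • f + d • θ f) =
      (-(N * b)) • e + a • θ e + (-(N * d)) • f + c • θ f by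
        simp only [map_add, map_smul, D.sq]; module, hg]
    simp only [map_add, map_smul, D.sq]
    module
  · rw [show e = (1 : F) • e + (0 : F) • θ e + (0 : F) • f + (0 : F) • θ f by module, hg]
    simp
  · rw [show f = (0 : F) • e + (0 : F) • θ e + (1 : F) • f + (0 : F) • θ f by module, hg]
    simp [smul_smul]

/-- An orthogonal basis of the image plane. -/
theorem Op4.exists_orth {x y : 𝕍} (hxy : B x y = 0) (hx : x ≠ 0) (hy : y ∉ kLine θ x) :
    ∃ z w : 𝕍, ∃ p₁ p₂ r₁ r₂ : F, x = p₁ • z + p₂ • w ∧ y = r₁ • z + r₂ • w ∧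
      (p₁ ≠ 0 ∨ r₁ ≠ 0) ∧ B z (θ z) ≠ 0 ∧ B z w = 0 ∧ B z (θ w) = 0 := by
  have hyx : B y x = 0 := by rw [D.swap, hxy, neg_zero]
  by_cases hA : B x (θ x) = 0
  · by_cases hC : B y (θ y) = 0
    · by_cases hS : B x (θ y) = 0
      · exact absurd (D.eq_zero_of_perp hx hy (D.self x) hA hxy hS) hx
      · have h2 := D.two
        refine ⟨x + y, x - y, 2⁻¹, 2⁻¹, 2⁻¹, -2⁻¹, ?_, ?_, Or.inl (inv_ne_zero h2), ?_, ?_, ?_⟩
        · match_scalars <;> field_simp <;> ring
        · match_scalars <;> field_simp <;> ring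
        · simp [D.hs x y, hA, hC]
          rw [← two_mul]
          exact mul_ne_zero h2 hS
        · simp [D.self, hxy, hyx]
        · simp [D.hs x y, hA, hC]
    · refine ⟨y, x - (B x (θ y) / B y (θ y)) • y, B x (θ y) / B y (θ y), 1, 1, 0, ?_, ?_,
        Or.inr one_ne_zero, hC, ?_, ?_⟩
      · module
      · module
      · simp [D.self, hyx]
      · simp [D.hs x y]
        field_simp
        ring
  · refine ⟨x, y - (B x (θ y) / B x (θ x)) • x, 1, 0, B x (θ y) / B x (θ x), 1, ?_, ?_,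
      Or.inl one_ne_zero, hA, ?_, ?_⟩
    · module
    · module
    · simp [D.self, hxy]
    · simp
      field_simp
      ring

variable [Finite F] {H : Subgroup ((ι → F) ≃ₗ[F] (ι → F))} (hH : H ≤ Symp.iso B)
  (hnorm : ∀ g ∈ Symp.iso B, (∀ v, θ (g v) = g (θ v)) → g ∈ H)
include hH hnorm

theorem Op4.root_mem {u : 𝕍} (hu : sQ B θ u = 0) (c : F) : uT D.alt θ N u c ∈ H :=
  hnorm _ (mul_mem (Symp.tv_mem_iso _ _ _) (Symp.tv_mem_iso _ _ _)) (D.uT_comm hu c)

/-- A moved line gives a transvection. -/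
theorem Op4.exists_centre {μ : F} (hμ0 : μ ≠ 0) (hμ : μ ^ 2 ≠ 1) {g : 𝕍 ≃ₗ[F] 𝕍} (hg : g ∈ H)
    {u : 𝕍} (hu : sQ B θ u = 0) (hne : g (θ u) ∉ kLine θ (g u)) :
    ∃ a, a ≠ 0 ∧ a ∈ Symp.centres D.alt H := by
  have h2 := D.two
  obtain ⟨x, hgx⟩ : ∃ x, g u = x := ⟨_, rfl⟩
  obtain ⟨y, hgy⟩ : ∃ y, g (θ u) = y := ⟨_, rfl⟩
  rw [hgx, hgy] at hne
  have hx0 : x ≠ 0 := fun h => hne (by
    have hu0 : u = 0 := g.injective (by rw [hgx, h, map_zero])
    rw [← hgy, hu0, map_zero, map_zero]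
    exact Submodule.zero_mem _)
  have hxy : B x y = 0 := by rw [← hgx, ← hgy, hH hg]; exact hu
  have hroot : ∀ c : F, Symp.tv D.alt x (c * N) * Symp.tv D.alt y c ∈ H := fun c => by
    have h := mul_mem (mul_mem hg (D.root_mem hH hnorm hu c)) (inv_mem hg)
    rwa [uT, ← mul_assoc, mul_assoc (g * _), show g * Symp.tv D.alt u (c * N) *
      (Symp.tv D.alt (θ u) c * g⁻¹) = g * Symp.tv D.alt u (c * N) * g⁻¹ *
        (g * Symp.tv D.alt (θ u) c * g⁻¹) by group, Symp.tv_conj D.alt (hH hg),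
      Symp.tv_conj D.alt (hH hg), hgx, hgy] at h
  obtain ⟨z, w, p₁, p₂, r₁, r₂, hx, hy, hpr, hA, hzw, hzw'⟩ := D.exists_orth hxy hx0 hne
  have hwz : B w z = 0 := by rw [D.swap, hzw, neg_zero]
  have hwz' : B w (θ z) = 0 := by rw [D.hs]; exact hzw'
  have hz0 : z ≠ 0 := fun h => hA (by simp [h])
  set a := N * (p₁ * p₁) + r₁ * r₁ with ha
  set b := N * (p₁ * p₂) + r₁ * r₂ with hb
  set d := N * (p₂ * p₂) + r₂ * r₂ with hd
  have ha0 : a ≠ 0 := fun h => D.norm_ne (a := r₁) (b := p₁) hpr.symm (by linear_combination h)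
  -- the images of the root elements under the isometries of the field
  have hconj : ∀ ρ : 𝕍 ≃ₗ[F] 𝕍, ρ ∈ H → ∀ c : F,
      Symp.tv D.alt (p₁ • ρ z + p₂ • ρ w) (c * N) * Symp.tv D.alt (r₁ • ρ z + r₂ • ρ w) c ∈ H := by
    intro ρ hρ c
    have h := mul_mem (mul_mem hρ (hroot c)) (inv_mem hρ)
    rwa [show ρ * (Symp.tv D.alt x (c * N) * Symp.tv D.alt y c) * ρ⁻¹ =
      ρ * Symp.tv D.alt x (c * N) * ρ⁻¹ * (ρ * Symp.tv D.alt y c * ρ⁻¹) by group,
      Symp.tv_conj D.alt (hH hρ), Symp.tv_conj D.alt (hH hρ), hx, hy, map_add, map_add, map_smul,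
      map_smul, map_smul, map_smul] at h
  obtain ⟨α, β, hβ, hαβ⟩ : ∃ α β : F, β ≠ 0 ∧ α * α + N * (β * β) = 1 := by
    have h1 : 1 + N ≠ 0 := fun h =>
      D.norm_ne (a := 1) (b := 1) (Or.inl one_ne_zero) (by linear_combination h)
    refine ⟨(1 - N) / (1 + N), 2 / (1 + N), div_ne_zero h2 h1, ?_⟩
    field_simp
    ring
  obtain ⟨ρ, hρi, hρc, hρz, hρw⟩ := D.exists_rho hA hαβ
  have hρH := hnorm ρ hρi hρc
  have hρw' := hρw w hwz hwz'
  obtain ⟨σ, hσi, hσc, hσz, hσw⟩ := D.exists_rho hA (α := -1) (β := 0) (by ring)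
  have hσH := hnorm σ hσi hσc
  have hσw' := hσw w hwz hwz'
  have hσz' : σ z = -z := by rw [hσz]; simp
  obtain ⟨z', hz'⟩ : ∃ z', z' = α • z + β • θ z := ⟨_, rfl⟩
  rw [← hz'] at hρz
  have hzz' : B z z' = β * B z (θ z) := by simp [hz', D.self]
  have hwz'' : B w z' = 0 := by simp [hz', hwz, hwz']
  have hz'w : B z' w = 0 := by rw [D.swap, hwz'', neg_zero]
  by_cases hb0 : b = 0
  · -- the element splits along the two lines
    refine ⟨z, hz0, plane_centre D.alt h2 hμ0 hμ hH (z' := z') (w := w) ?_ hwz hwz''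
      (fun c => ⟨c / a * d, ?_⟩) fun c => ?_⟩
    · rw [hzz']; exact mul_ne_zero hβ hA
    · have e : Symp.tv D.alt x (c / a * N) * Symp.tv D.alt y (c / a) =
          Symp.tv D.alt z c * Symp.tv D.alt w (c / a * d) := by
        refine LinearEquiv.ext fun v => ?_
        simp [LinearEquiv.mul_apply, hx, hy, D.self, hzw, hwz]
        match_scalars <;> field_simp
        · linear_combination (-(c * B v z)) * ha + (c * B v w) * hb0 - (c * B v w) * hb
        · linear_combination (c * B v z) * hb0 - (c * B v z) * hb - (c * B v w) * hd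
      rw [← e]; exact hroot _
    · have e : Symp.tv D.alt x (c / a * N) * Symp.tv D.alt y (c / a) *
          (Symp.tv D.alt (p₁ • ρ z + p₂ • ρ w) (c / a * N) *
            Symp.tv D.alt (r₁ • ρ z + r₂ • ρ w) (c / a))⁻¹ =
          Symp.tv D.alt z c * Symp.tv D.alt z' (-c) := by
        rw [mul_inv_eq_iff_eq_mul, hρz, hρw']
        refine LinearEquiv.ext fun v => ?_
        simp [LinearEquiv.mul_apply, hx, hy, D.self, hzw, hwz, hz'w, hwz'']
        match_scalars <;> field_simp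
        · linear_combination (c * c * B z' z * B v z' - c * B v z) * ha +
            (c * B v w - c * c * B z' z * B v w) * hb0 - (c * B v w - c * c * B z' z * B v w) * hb
        · linear_combination (c * (B v z - B v z')) * hb0 - (c * (B v z - B v z')) * hb
        · linear_combination (c * B v z') * ha + (-(c * B v w)) * hb0 + (c * B v w) * hb
      rw [← e]
      exact mul_mem (hroot _) (inv_mem (hconj ρ hρH _))
  · -- two short root elements
    have h2b : 2 * b ≠ 0 := mul_ne_zero h2 hb0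
    have hsr : ∀ c : F, sr D.alt (c • z) w ∈ H := by
      intro c
      have h := mul_mem (hroot (c / (2 * b))) (hconj σ hσH (-(c / (2 * b))))
      convert h using 1
      refine LinearEquiv.ext fun v => ?_
      rw [sr_apply D.alt (by simp [hzw])]
      simp [LinearEquiv.mul_apply, hx, hy, hσz', hσw', D.self, hzw, hwz]
      match_scalars <;> field_simp
      · linear_combination (2 * c * B v w) * hb
      · linear_combination (2 * c * B v z) * hb
    have hsr' : ∀ c : F, sr D.alt (c • z') w ∈ H := fun c => by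
      have h := mul_mem (mul_mem hρH (hsr c)) (inv_mem hρH)
      rwa [sr_conj D.alt (hH hρH), map_smul, hρz, hρw'] at h
    refine ⟨w, fun hw => hb0 ?_, centre_of_scaled D.alt
      (k := -(2 * (β * B z (θ z)))) (neg_ne_zero.mpr (mul_ne_zero h2 (mul_ne_zero hβ hA))) fun c => ?_⟩
    · exfalso
      apply hne
      rw [hx, hy, hw, smul_zero, smul_zero, add_zero, add_zero]
      have hp : p₁ ≠ 0 := fun h => hx0 (by rw [hx, hw, h]; simp)
      exact mem_kLine.mpr ⟨r₁ / p₁, 0, by simp [smul_smul, hp]⟩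
    · have h1 : sr D.alt w ((1 : F) • z) ∈ H := by
        rw [← SpGeo.Pair.sr_comm D.alt (by simp [hzw])]; exact hsr 1
      have h := long_of_short D.alt (by simp [hwz]) (by simp [hz'w]) h1 (hsr' c)
      rw [one_smul, map_smul, LinearMap.smul_apply, D.swap z z', hzz'] at h
      convert h using 2
      simp only [smul_eq_mul]
      ring

/-- A transvection gives the whole isometry group. -/
theorem Op4.top_of_centre {a : 𝕍} (ha0 : a ≠ 0) (ha : a ∈ Symp.centres D.alt H) :
    H = Symp.iso B := by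
  set C := Symp.centres D.alt H
  have step : ∀ v ∈ C, ∀ u, sQ B θ u = 0 → (B v u ≠ 0 ∨ B v (θ u) ≠ 0) →
      (N * B v u) • u + B v (θ u) • θ u ∈ C := by
    intro v hv u hu hne
    have h1 := Symp.centres_invariant D.alt hH (D.root_mem hH hnorm hu 1) hv
    rw [D.uT_apply hu, one_mul, one_mul, add_assoc] at h1
    set ξ := (N * B v u) • u + B v (θ u) • θ u with hξ
    have hb : B v (v + ξ) ≠ 0 := by
      rw [map_add, D.self, zero_add, hξ, map_add, map_smul, map_smul]
      simp only [smul_eq_mul]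
      intro h0
      exact D.norm_ne (a := B v (θ u)) (b := B v u) hne.symm (by linear_combination h0)
    have := centres_join D.alt hH hv h1 hb (-1) 1
    rwa [neg_smul, one_smul, one_smul, neg_add_cancel_left] at this
  obtain ⟨e, he0, heQ, he⟩ : ∃ e, e ≠ 0 ∧ sQ B θ e = 0 ∧ e ∈ C := by
    obtain ⟨e₀, f₀, h⟩ := D.exists_hyp
    have key : ∀ u, u ≠ 0 → sQ B θ u = 0 → (B a u ≠ 0 ∨ B a (θ u) ≠ 0) →
        ∃ e, e ≠ 0 ∧ sQ B θ e = 0 ∧ e ∈ C := fun u hu0 hu hne =>
      ⟨_, fun h0 => by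
          have := LinearIndependent.pair_iff.mp (D.li_two hu0) _ _ h0
          rcases hne with h | h
          · exact mul_ne_zero D.neN h this.1
          · exact h this.2,
        by rw [D.Q_kline, hu, mul_zero], step a ha u hu hne⟩
    by_cases h1 : B a e₀ ≠ 0 ∨ B a (θ e₀) ≠ 0
    · exact key e₀ h.ne_zero h.singE h1
    by_cases h3 : B a f₀ ≠ 0 ∨ B a (θ f₀) ≠ 0
    · exact key f₀ (fun h0 => by simpa [h0] using h.pair) h.singF h3
    push Not at h1 h3
    exact absurd (D.eq_zero_of_perp h.ne_zero (Hyp4.notMem D h) h1.1 h1.2 h3.1 h3.2) ha0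
  obtain ⟨f, h⟩ := D.partner heQ he0
  have hf : f ∈ C := by
    have h1 := step e he f h.singF (Or.inl (by rw [h.pair]; exact one_ne_zero))
    rw [h.pair, h.pairOp, zero_smul, add_zero, mul_one] at h1
    have := centre_smul D.alt h1 N⁻¹
    rwa [smul_smul, inv_mul_cancel₀ D.neN, one_smul] at this
  have hlines : ∀ s r : F, s • e + r • θ e ∈ C ∧ s • f + r • θ f ∈ C := by
    intro s r
    by_cases hsr : s = 0 ∧ r = 0
    · rw [hsr.1, hsr.2]
      simp only [zero_smul, add_zero]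
      exact ⟨centre_zero D.alt, centre_zero D.alt⟩
    obtain ⟨g, hgi, hgc, hge, hgf⟩ := D.exists_scale h (not_and_or.mp hsr)
    have hgH := hnorm g hgi hgc
    have h1 := Symp.centres_invariant D.alt hH hgH he
    have h2 := centre_smul D.alt (Symp.centres_invariant D.alt hH hgH hf) (s * s + N * (r * r))
    rw [hge] at h1
    rw [hgf, smul_smul, mul_inv_cancel₀ (D.norm_ne (not_and_or.mp hsr)), one_smul] at h2
    exact ⟨h1, h2⟩
  refine Symp.eq_iso_of_centres D.nondeg D.alt hH fun v => ?_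
  obtain ⟨p, q, c, d, rfl⟩ := D.decomp h v
  obtain ⟨hp, -⟩ := hlines p q
  rcases eq_or_ne (p • e + q • θ e) 0 with h0 | h0
  · rw [h0, zero_add]; exact (hlines c d).2
  set x := p • e + q • θ e with hx
  obtain ⟨c₁, d₁, hd₁⟩ : ∃ c₁ d₁ : F, B x (c₁ • f + d₁ • θ f) ≠ 0 := by
    by_contra hc
    push Not at hc
    have h1 := hc 1 0
    have h2 := hc 0 1
    simp only [one_smul, zero_smul, add_zero, zero_add] at h1 h2
    have hxe : ∀ w, B e w = 0 → B (θ e) w = 0 → B x w = 0 := fun w a b => by simp [hx, a, b]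
    have he1 : B e (θ e) = 0 := h.singE
    refine h0 (D.eq_zero_of_perp h.ne_zero (Hyp4.notMem D h) (hxe e (D.self e) ?_)
      (hxe (θ e) he1 (D.self _)) h1 h2)
    rw [D.swap, he1, neg_zero]
  have hff : ∀ a b a' b' : F, B (a • f + b • θ f) (a' • f + b' • θ f) = 0 := fun a b a' b' => by
    have hf1 : B f (θ f) = 0 := h.singF
    simp [D.self, D.sq, D.op_op, D.skew, hf1]
  by_cases hxy : B x (c • f + d • θ f) = 0
  · have h1 := centres_join D.alt hH hp (hlines c₁ d₁).2 hd₁ 1 1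
    rw [one_smul, one_smul] at h1
    have h3 := centres_join D.alt hH h1 (hlines (c - c₁) (d - d₁)).2 (by
      rw [map_add B x, LinearMap.add_apply, hff, add_zero,
        show (c - c₁) • f + (d - d₁) • θ f = (c • f + d • θ f) - (c₁ • f + d₁ • θ f) by module,
        map_sub, hxy, zero_sub, neg_ne_zero]
      exact hd₁) 1 1
    convert h3 using 1
    simp only [hx]
    module
  · have h3 := centres_join D.alt hH hp (hlines c d).2 hxy 1 1
    convert h3 using 1
    simp only [hx]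
    module

omit hnorm in
/-- An element preserving the lines of isotropic vectors preserves the field. -/
theorem Op4.scalar_of_lines {g : 𝕍 ≃ₗ[F] 𝕍} (hg : g ∈ H)
    (hl : ∀ u, sQ B θ u = 0 → g (θ u) ∈ kLine θ (g u)) :
    ∃ a b : F, ∀ w, g.symm (θ (g w)) = a • w + b • θ w := by
  obtain ⟨e, f, h⟩ := D.exists_hyp
  set φ : 𝕍 →ₗ[F] 𝕍 := g.symm.toLinearMap.comp (θ.comp g.toLinearMap) with hφ
  have hskew : ∀ u v, B (φ u) v = -B u (φ v) := by
    intro u v
    show B (g.symm (θ (g u))) v = -B u (g.symm (θ (g v)))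
    have e1 : B (g.symm (θ (g u))) v = B (θ (g u)) (g v) := by
      rw [← hH hg (g.symm (θ (g u))) v, g.apply_symm_apply]
    have e2 : B u (g.symm (θ (g v))) = B (g u) (θ (g v)) := by
      rw [← hH hg u (g.symm (θ (g v))), g.apply_symm_apply]
    rw [e1, e2, D.skew]
  have himg : ∀ u, u ≠ 0 → sQ B θ u = 0 → ∃ a b c d : F,
      φ u = a • u + b • θ u ∧ φ (θ u) = c • u + d • θ u := by
    intro u hu0 hu
    obtain ⟨a, b, hab⟩ := mem_kLine.mp (hl u hu)
    have hb : b ≠ 0 := fun hb => by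
      rw [hb, zero_smul, add_zero, ← map_smul] at hab
      exact D.free u hu0 a (g.injective hab).symm
    have e1 : θ (g u) = b⁻¹ • g (θ u) - (b⁻¹ * a) • g u := by
      rw [← hab, smul_add, smul_smul, smul_smul, inv_mul_cancel₀ hb, one_smul]
      abel
    have e3 : φ u = (-(b⁻¹ * a)) • u + b⁻¹ • θ u := by
      refine g.injective ?_
      show g (g.symm _) = _
      rw [g.apply_symm_apply, map_add, map_smul, map_smul]
      show θ (g u) = _
      rw [e1, neg_smul]
      abel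
    refine ⟨_, _, a * -(b⁻¹ * a) - b * N, a * b⁻¹, e3, g.injective ?_⟩
    show g (g.symm _) = _
    rw [g.apply_symm_apply, map_add, map_smul, map_smul]
    show θ (g (θ u)) = _
    conv_lhs => rw [← hab, map_add, map_smul, map_smul, D.sq, e1]
    match_scalars <;> field_simp <;> ring
  have hf0 : f ≠ 0 := fun h0 => by simpa [h0] using h.pair
  have hef0 : e + f ≠ 0 := fun h0 => by simpa [D.self, h.pair] using congrArg (B e) h0
  have hQef : sQ B θ (e + f) = 0 := by rw [D.Q_add, h.singE, h.singF, h.pairOp]; ring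
  obtain ⟨a₁, b₁, c₁, d₁, p1, q1⟩ := himg e h.ne_zero h.singE
  obtain ⟨a₂, b₂, c₂, d₂, p2, q2⟩ := himg f hf0 h.singF
  obtain ⟨a₃, b₃, c₃, d₃, p3, q3⟩ := himg (e + f) hef0 hQef
  have he1 : B e (θ e) = 0 := h.singE
  have hf1 : B f (θ f) = 0 := h.singF
  have hfe : B f (θ e) = 0 := by rw [D.hs]; exact h.pairOp
  have sep : ∀ a b c d : F, a • e + b • θ e + c • f + d • θ f = 0 →
      a = 0 ∧ b = 0 ∧ c = 0 ∧ d = 0 := fun a b c d e0 => by
    have u1 := congrArg (B f) e0
    have u2 := congrArg (fun v => B f (θ v)) e0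
    have u3 := congrArg (B e) e0
    have u4 := congrArg (fun v => B e (θ v)) e0
    simp [D.self, D.sq, D.swap e f, h.pair, h.pairOp, he1, hf1, hfe, D.neN] at u1 u2 u3 u4
    exact ⟨u1, u2, u3, u4⟩
  rw [map_add, p1, p2, map_add] at p3
  rw [map_add, map_add, q1, q2] at q3
  obtain ⟨P1, P2, P3, P4⟩ := sep (a₁ - a₃) (b₁ - b₃) (a₂ - a₃) (b₂ - b₃)
    (by linear_combination (norm := module) p3)
  obtain ⟨Q1, Q2, Q3, Q4⟩ := sep (c₁ - c₃) (d₁ - d₃) (c₂ - c₃) (d₂ - d₃)
    (by linear_combination (norm := module) q3)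
  have s1 := hskew e f
  have s2 := hskew (θ e) (θ f)
  have s3 := hskew e (θ f)
  rw [p1, p2] at s1
  rw [q1, q2] at s2
  rw [p1, q2] at s3
  simp [D.self, D.op_op, D.skew, D.sq, h.pair, h.pairOp, he1, hf1, hfe] at s1 s2 s3
  have ha₁ : a₁ = 0 := (mul_eq_zero.mp (show 2 * a₁ = 0 by
    linear_combination s1 + P1 - P3)).resolve_left D.two
  have hd₁ : d₁ = 0 := (mul_eq_zero.mp (show N * (2 * d₁) = 0 by
    linear_combination s2 + N * Q2 - N * Q4)).resolve_left D.neN |> fun h =>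
      (mul_eq_zero.mp h).resolve_left D.two
  have hc₁ : c₁ = -(b₁ * N) := by linear_combination s3 + Q1 - Q3
  refine ⟨0, b₁, fun v => ?_⟩
  show φ v = _
  obtain ⟨p, q, r, s, rfl⟩ := D.decomp h v
  have r1 : a₂ = 0 := by linear_combination P3 - P1 + ha₁
  have r2 : b₂ = b₁ := by linear_combination P4 - P2
  have r3 : c₂ = -(b₁ * N) := by linear_combination Q3 - Q1 + hc₁
  have r4 : d₂ = 0 := by linear_combination Q4 - Q2 + hd₁
  simp only [map_add, map_smul, p1, q1, p2, q2, D.sq, r1, r2, r3, r4, ha₁, hd₁, hc₁]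
  module

/-- Either the group preserves the field, or it is everything. -/
theorem Op4.normalises_or_top {μ : F} (hμ0 : μ ≠ 0) (hμ : μ ^ 2 ≠ 1) :
    (∀ g ∈ H, ∃ a b : F, ∀ w, g.symm (θ (g w)) = a • w + b • θ w) ∨ H = Symp.iso B := by
  by_cases h : ∀ g ∈ H, ∀ u, sQ B θ u = 0 → g (θ u) ∈ kLine θ (g u)
  · exact Or.inl fun g hg => D.scalar_of_lines hH hg (h g hg)
  · push Not at h
    obtain ⟨g, hg, u, hu, hne⟩ := h
    obtain ⟨a, ha0, ha⟩ := D.exists_centre hH hnorm hμ0 hμ hg hu hne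
    exact Or.inr (D.top_of_centre hH hnorm ha0 ha)

end Cfsg.Lib.Linear.SpFour.Quad
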